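import Groth.Agent.Lib.BigEt.Pullback
import Groth.Agent.Lib.PropH0.PropBC

/-!
# Relative sections of a direct image under a proper map
-/

set_option autoImplicit false
universe u

open CategoryTheory CategoryTheory.Limits AlgebraicGeometry Opposite
open GrothLib.EtSite GrothLib.EtSec

set_option backward.isDefEq.respectTransparency.types false

noncomputable section

namespace GrothLib.BigEt

variable {T S : Scheme.{u}} (f : T ⟶ S)

/-- The presheaf of relative sections on base changes. -/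
def pushPsh (F : EtDesc.Sh T) : (Over S)ᵒᵖ ⥤ Type (u + 1) := (Over.pullback f).op ⋙ secsPsh F

theorem pullback_map_left {V V' : Over S} (g : V' ⟶ V) :
    ((Over.pullback f).map g).left = bmap f g.left (Over.w g) := by
  apply pullback.hom_ext
  · exact (pullback.lift_fst _ _ _).trans (bmap_fst f g.left (Over.w g)).symm
  · exact (pullback.lift_snd _ _ _).trans (bmap_snd f g.left (Over.w g)).symm

theorem pushPsh_map (F : EtDesc.Sh T) {V V' : Over S} (g : V' ⟶ V) (σ : Secs (pullback.snd V.hom f) F) :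
    (pushPsh f F).map g.op σ = resT f g.left (Over.w g) σ :=
  Secs.res_congr (pullback_map_left f g) (Over.w ((Over.pullback f).map g)) (bmap_snd f _ _) σ

theorem isSheaf_pushPsh (F : EtDesc.Sh T) :
    Presieve.IsSheaf (QuotSh.J Scheme.etalePrecoverage S) (pushPsh f F) :=
  (isSheaf_iff_isSheaf_of_type _ _).1
    (((Over.pullback f).sheafPushforwardContinuous (Type (u + 1)) (QuotSh.J Scheme.etalePrecoverage S)
      (QuotSh.J Scheme.etalePrecoverage T)).obj
      ⟨secsPsh F, (isSheaf_iff_isSheaf_of_type _ _).2 (isSheaf_secsPsh_etale F)⟩).property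

/-- Sections of a direct image as sections on base changes. -/
def pushUnit (F : EtDesc.Sh T) : ((EtDesc.pushSh f).obj F).obj ⟶ (EtFppf.a S).op ⋙ pushPsh f F where
  app W := TypeCat.ofHom fun t => secOf F (U := (EtCoh.bc f).obj W.unop) t
  naturality W W' r := by
    ext t
    refine (secOf_map F ((EtCoh.bc f).map r.unop) t).trans ?_
    refine Eq.trans ?_ (pushPsh_map f F ((EtFppf.a S).map r.unop) (secOf F (U := (EtCoh.bc f).obj W.unop) t)).symm
    refine Secs.res_congr (pullback.hom_ext ?_ ?_) _ _ _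
    · exact (EtCoh.isPullback_bc_map f r.unop).w.trans (bmap_fst f _ _).symm
    · exact (hom_left ((EtCoh.bc f).map r.unop)).trans (bmap_snd f _ _).symm

/-- The comparison for a proper map. -/
def pushComp (F : EtDesc.Sh T) : secsPsh ((EtDesc.pushSh f).obj F) ⟶ pushPsh f F :=
  (exists_unique_ext (pushPsh f F) (isSheaf_pushPsh f F) (pushUnit f F)).exists.choose

theorem pushComp_secOf (F : EtDesc.Sh T) (W : S.Etale) (t : EtDesc.sect ((EtDesc.pushSh f).obj F) W) :
    (pushComp f F).app (op ((EtFppf.a S).obj W)) (secOf ((EtDesc.pushSh f).obj F) t) =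
      secOf F (U := (EtCoh.bc f).obj W) t :=
  (exists_unique_ext (pushPsh f F) (isSheaf_pushPsh f F) (pushUnit f F)).exists.choose_spec W t

theorem pushComp_ofSect (F : EtDesc.Sh T) {V : Over S} {W : S.Etale} (m : V.left ⟶ W.left)
    (hm : m ≫ W.hom = V.hom) (t : EtDesc.sect ((EtDesc.pushSh f).obj F) W) :
    (pushComp f F).app (op V) (Secs.ofSect m hm t) =
      resT f m hm (secOf F (U := (EtCoh.bc f).obj W) t) := by
  rw [ofSect_eq]
  refine (NatTrans.naturality_apply (pushComp f F) (toA m hm).op (secOf _ t)).trans ?_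
  rw [pushComp_secOf]
  exact pushPsh_map f F (toA m hm) _

theorem pushComp_res (F : EtDesc.Sh T) {V : Over S} {V' : Scheme.{u}} (g : V' ⟶ V.left)
    (σ : Secs V.hom ((EtDesc.pushSh f).obj F)) :
    (pushComp f F).app (op (Over.mk (g ≫ V.hom))) (σ.res g rfl) =
      resT f g rfl ((pushComp f F).app (op V) σ) :=
  (NatTrans.naturality_apply (pushComp f F) (Over.homMk g : Over.mk (g ≫ V.hom) ⟶ V).op σ).trans
    (pushPsh_map f F (Over.homMk g : Over.mk (g ≫ V.hom) ⟶ V) _)

theorem pushComp_natural {F F' : EtDesc.Sh T} (α : F ⟶ F') :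
    (secsPshFunctor S).map ((EtDesc.pushSh f).map α) ≫ pushComp f F' =
      pushComp f F ≫ Functor.whiskerLeft (Over.pullback f).op ((secsPshFunctor T).map α) := by
  obtain ⟨χ, -, huniq⟩ := exists_unique_ext (pushPsh f F') (isSheaf_pushPsh f F')
    (((EtDesc.pushSh f).map α).hom ≫ pushUnit f F')
  refine (huniq _ fun W t => ?_).trans (huniq _ fun W t => ?_).symm
  · show (pushComp f F').app (op ((EtFppf.a S).obj W)) (secsMap _ (secOf _ t)) = _
    have e : secsMap ((EtDesc.pushSh f).map α) (secOf ((EtDesc.pushSh f).obj F) t) =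
        secOf ((EtDesc.pushSh f).obj F') (((EtDesc.pushSh f).map α).hom.app (op W) t) :=
      secsMap_ofSect _ (𝟙 W.left) (Category.id_comp W.hom) t
    exact (congrArg ((pushComp f F').app (op ((EtFppf.a S).obj W))) e).trans (pushComp_secOf f F' W _)
  · show secsMap α ((pushComp f F).app (op ((EtFppf.a S).obj W)) (secOf _ t)) = _
    refine (congrArg (secsMap α) (pushComp_secOf f F W t)).trans ?_
    exact secsMap_ofSect α (𝟙 ((EtCoh.bc f).obj W).left) (Category.id_comp _) t

variable [IsProper f]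

theorem pushComp_injective (F : EtDesc.Sh T) (V : Over S) :
    Function.Injective ((pushComp f F).app (op V)) := by
  intro σ σ' h
  refine Secs.eq_of_eqLocus σ σ' fun x => ?_
  obtain ⟨Ω, _, _, p, rfl⟩ := Secs.exists_point x
  let η := p ≫ V.hom
  refine (Secs.mem_eqLocus_iff σ σ' p η rfl).2 ?_
  obtain ⟨V₁, v₁, hv₁, p₁, W₁, m₁, hm₁, t₁, hp₁, ht₁⟩ := σ.exists_rep p
  obtain ⟨V₂, v₂, hv₂, p₂, W₂, m₂, hm₂, t₂, hp₂, ht₂⟩ := σ'.exists_rep p
  let w₁ : W₁.left ⟶ S := W₁.hom
  let w₂ : W₂.left ⟶ S := W₂.hom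
  haveI : Etale w₁ := W₁.prop
  haveI : Etale w₂ := W₂.prop
  haveI : Etale (pullback.fst w₁ w₂) := MorphismProperty.pullback_fst _ _ ‹Etale w₂›
  let W : S.Etale := Scheme.Etale.mk (pullback.fst w₁ w₂ ≫ w₁)
  let r₁ : W ⟶ W₁ := MorphismProperty.Over.homMk (pullback.fst w₁ w₂) rfl
  let r₂ : W ⟶ W₂ := MorphismProperty.Over.homMk (pullback.snd w₁ w₂) pullback.condition.symm
  let V' := pullback v₁ v₂
  let v : V' ⟶ V.left := pullback.fst v₁ v₂ ≫ v₁
  haveI : Etale (pullback.fst v₁ v₂) := MorphismProperty.pullback_fst _ _ hv₂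
  haveI : Etale v := inferInstance
  have hm₁' : m₁ ≫ w₁ = v₁ ≫ V.hom := hm₁
  have hm₂' : m₂ ≫ w₂ = v₂ ≫ V.hom := hm₂
  let m₀ : V' ⟶ pullback w₁ w₂ := pullback.lift (pullback.fst v₁ v₂ ≫ m₁) (pullback.snd v₁ v₂ ≫ m₂) (by
    rw [Category.assoc, Category.assoc, hm₁', hm₂', pullback.condition_assoc])
  let m : V' ⟶ W.left := m₀
  have hm : m ≫ W.hom = v ≫ V.hom := by
    show m₀ ≫ pullback.fst w₁ w₂ ≫ w₁ = _
    rw [pullback.lift_fst_assoc, Category.assoc, hm₁', ← Category.assoc]
  let s := ((EtDesc.pushSh f).obj F).obj.map r₁.op t₁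
  let s' := ((EtDesc.pushSh f).obj F).obj.map r₂.op t₂
  have e₁ : σ.res v rfl = Secs.ofSect m hm s := Secs.ext' fun Ω' _ _ q η' hq => by
    have h1 : ((q ≫ pullback.fst v₁ v₂) ≫ v₁) ≫ V.hom = η' := by rw [← hq]; simp [v]
    refine (σ.val_congr (Category.assoc q _ v₁).symm _ h1).trans ((ht₁ Ω' _ η' h1).trans ?_)
    refine Eq.trans ?_ (gSh_map r₁ (q ≫ m) ((Category.assoc q m W.hom).trans ((congrArg (q ≫ ·) hm).trans hq)) ?_ t₁).symm
    · exact gSh_congr ((Category.assoc q _ m₁).trans ((congrArg (q ≫ ·) (pullback.lift_fst _ _ _).symm).trans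
        (Category.assoc q m _).symm)) _ _ t₁
    · show ((q ≫ m) ≫ pullback.fst w₁ w₂) ≫ w₁ = η'
      rw [Category.assoc, Category.assoc]; exact (congrArg (q ≫ ·) hm).trans hq
  have e₂ : σ'.res v rfl = Secs.ofSect m hm s' := Secs.ext' fun Ω' _ _ q η' hq => by
    have h1 : ((q ≫ pullback.snd v₁ v₂) ≫ v₂) ≫ V.hom = η' := by
      rw [← hq]; simp [v, pullback.condition_assoc]
    refine (σ'.val_congr (show q ≫ v = (q ≫ pullback.snd v₁ v₂) ≫ v₂ by simp [v, pullback.condition]) _ h1).trans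
      ((ht₂ Ω' _ η' h1).trans ?_)
    refine Eq.trans ?_ (gSh_map r₂ (q ≫ m) ((Category.assoc q m W.hom).trans ((congrArg (q ≫ ·) hm).trans hq)) ?_ t₂).symm
    · exact gSh_congr ((Category.assoc q _ m₂).trans ((congrArg (q ≫ ·) (pullback.lift_snd _ _ _).symm).trans
        (Category.assoc q m _).symm)) _ _ t₂
    · show ((q ≫ m₀) ≫ pullback.snd w₁ w₂) ≫ w₂ = η'
      rw [Category.assoc, Category.assoc, ← pullback.condition]; exact (congrArg (q ≫ ·) hm).trans hq
  have he : resT f m hm (secOf F (U := (EtCoh.bc f).obj W) s) =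
      resT f m hm (secOf F (U := (EtCoh.bc f).obj W) s') := by
    refine (pushComp_ofSect f F (V := Over.mk (v ≫ V.hom)) m hm s).symm.trans (Eq.trans ?_
      (pushComp_ofSect f F (V := Over.mk (v ≫ V.hom)) m hm s'))
    rw [← e₁, ← e₂]
    exact (pushComp_res f F v σ).trans ((congrArg (resT f v rfl) h).trans (pushComp_res f F v σ').symm)
  let q : Spec (CommRingCat.of Ω) ⟶ V' := pullback.lift p₁ p₂ (hp₁.trans hp₂.symm)
  have hq : q ≫ v = p := by rw [pullback.lift_fst_assoc, hp₁]
  have hl : (q ≫ m) ≫ W.hom = η :=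
    (Category.assoc q m W.hom).trans ((congrArg (q ≫ ·) hm).trans ((Category.assoc q v V.hom).symm.trans
      (congrArg (· ≫ V.hom) hq)))
  obtain ⟨W', r, l', hl', hr, hs⟩ := (GrothLib.PropH0.keyData_of_proper f V.hom (F := F) p).inj (W := W) (q ≫ m) hl
    (secOf F (U := (EtCoh.bc f).obj W) s) (secOf F (U := (EtCoh.bc f).obj W) s')
    (U := Scheme.Etale.mk v) q hq m m hm hm rfl rfl he
  have hbc : ∀ t : EtDesc.sect ((EtDesc.pushSh f).obj F) W,
      resT f r.left (hom_left r) (secOf F (U := (EtCoh.bc f).obj W) t) =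
        secOf F (U := (EtCoh.bc f).obj W') (((EtDesc.pushSh f).obj F).obj.map r.op t) := fun t =>
    ((NatTrans.naturality_apply (pushUnit f F) r.op t).trans
      (pushPsh_map f F ((EtFppf.a S).map r) (secOf F (U := (EtCoh.bc f).obj W) t))).symm
  have hss : ((EtDesc.pushSh f).obj F).obj.map r.op s = ((EtDesc.pushSh f).obj F).obj.map r.op s' :=
    secOf_injective F _ ((hbc s).symm.trans (hs.trans (hbc s')))
  have hlr : (l' ≫ r.left) ≫ W.hom = η := (congrArg (· ≫ W.hom) hr).trans hl
  have hgs : gSh ((EtDesc.pushSh f).obj F) (q ≫ m) hl s = gSh ((EtDesc.pushSh f).obj F) (q ≫ m) hl s' :=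
    (gSh_congr hr.symm hl hlr s).trans (((gSh_map r l' hl' hlr s).symm.trans
      ((congrArg (gSh ((EtDesc.pushSh f).obj F) l' hl') hss).trans (gSh_map r l' hl' hlr s'))).trans
        (gSh_congr hr hlr hl s'))
  have hq' : q ≫ v ≫ V.hom = η := (Category.assoc q v V.hom).symm.trans (congrArg (· ≫ V.hom) hq)
  have a₁ := congrArg (fun τ : Secs (v ≫ V.hom) ((EtDesc.pushSh f).obj F) => τ.val Ω q η hq') e₁
  have a₂ := congrArg (fun τ : Secs (v ≫ V.hom) ((EtDesc.pushSh f).obj F) => τ.val Ω q η hq') e₂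
  exact (σ.val_congr hq.symm rfl ((Category.assoc q v V.hom).trans hq')).trans
    (a₁.trans (hgs.trans (a₂.symm.trans (σ'.val_congr hq _ rfl))))

theorem pushComp_surjective (F : EtDesc.Sh T) (V : Over S) :
    Function.Surjective ((pushComp f F).app (op V)) := by
  intro τ
  have loc : ∀ x : V.left, ∃ (V' : Scheme.{u}) (v : V' ⟶ V.left) (_ : Etale v) (z : V') (_ : v.base z = x)
      (σ : Secs (v ≫ V.hom) ((EtDesc.pushSh f).obj F)),
      (pushComp f F).app (op (Over.mk (v ≫ V.hom))) σ = resT f v rfl τ := by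
    intro x
    obtain ⟨Ω, _, _, p, rfl⟩ := Secs.exists_point x
    have hd := GrothLib.PropH0.keyData_of_proper f V.hom (F := F) p
    have h1 : (EtCoh.top V.left).hom ≫ V.hom = V.hom := Category.id_comp _
    obtain ⟨W, l, hl, s, U', r, m, hm, q', hq', -, -, he⟩ := hd.surj (U := EtCoh.top V.left) p
      (Category.comp_id p) (resT f (𝟙 V.left) ((Category.id_comp V.hom).trans h1.symm) τ)
    obtain ⟨t, ht⟩ := (secOf_bijective F ((EtCoh.bc f).obj W)).2 s
    haveI : Etale U'.hom := U'.prop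
    refine ⟨U'.left, U'.hom, U'.prop, q'.base default, ?_, Secs.ofSect m hm t, ?_⟩
    · exact congrArg (fun k : Spec (CommRingCat.of Ω) ⟶ V.left => k.base default) hq'
    refine (pushComp_ofSect f F (V := Over.mk (U'.hom ≫ V.hom)) m hm t).trans ?_
    refine (congrArg (resT f m hm) ht).trans (he.symm.trans ?_)
    refine (resT_resT f _ _ _ _ τ).trans (resT_congr f ?_ _ rfl τ)
    refine (Category.comp_id r.left).trans ?_
    exact (Category.comp_id r.left).symm.trans (MorphismProperty.Over.w r)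
  choose V' v hv z hz σ hσ using loc
  obtain ⟨σ₀, hσ₀⟩ := Secs.exists_glue V' v hv (fun x => ⟨x, z x, hz x⟩) σ
    (fun i j Ω _ _ p q η hp hq e => by
      let pr : Spec (CommRingCat.of Ω) ⟶ pullback (v i) (v j) := pullback.lift p q e
      let P : Over S := Over.mk (pullback.fst (v i) (v j) ≫ v i ≫ V.hom)
      let g₁ : P ⟶ Over.mk (v i ≫ V.hom) := Over.homMk (pullback.fst (v i) (v j)) rfl
      let g₂ : P ⟶ Over.mk (v j ≫ V.hom) := Over.homMk (pullback.snd (v i) (v j))
        (pullback.condition_assoc _).symm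
      have key : (σ i).res g₁.left (Over.w g₁) = (σ j).res g₂.left (Over.w g₂) := by
        refine pushComp_injective f F P ?_
        refine ((NatTrans.naturality_apply (pushComp f F) g₁.op (σ i)).trans ?_).trans
          (NatTrans.naturality_apply (pushComp f F) g₂.op (σ j)).symm
        rw [hσ i, hσ j]
        refine ((pushPsh_map f F g₁ _).trans (resT_resT f g₁.left (Over.w g₁) (v i) rfl τ)).trans ?_
        refine Eq.trans ?_ ((pushPsh_map f F g₂ _).trans (resT_resT f g₂.left (Over.w g₂) (v j) rfl τ)).symm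
        exact resT_congr f pullback.condition _ _ τ
      have h : pr ≫ P.hom = η := (pullback.lift_fst_assoc _ _ _ _).trans hp
      have := congrArg (fun t : Secs P.hom ((EtDesc.pushSh f).obj F) => t.val Ω pr η h) key
      exact ((σ i).val_congr (pullback.lift_fst _ _ _).symm hp _).trans
        (this.trans ((σ j).val_congr (pullback.lift_snd _ _ _) _ hq)))
  refine ⟨σ₀, Secs.eq_of_eqLocus _ _ fun o => ?_⟩
  let x := (pullback.fst V.hom f).base o
  obtain ⟨o', ho', -⟩ := Scheme.exists_preimage_of_isPullback (isPullback_bmap f (v x) rfl) o (z x) (hz x).symm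
  rw [← ho']
  refine (Secs.mem_eqLocus_res (bmap f (v x) rfl) (bmap_snd f _ _) _ _ o').1 ?_
  rw [Secs.eqLocus_eq_univ ((pushComp_res f F (v x) σ₀).symm.trans
    ((congrArg ((pushComp f F).app (op (Over.mk (v x ≫ V.hom)))) (hσ₀ x)).trans (hσ x)))]
  trivial

theorem isIso_pushComp (F : EtDesc.Sh T) : IsIso (pushComp f F) := by
  haveI : ∀ V, IsIso ((pushComp f F).app V) := fun V => (isIso_iff_bijective _).2
    ⟨pushComp_injective f F V.unop, pushComp_surjective f F V.unop⟩
  exact NatIso.isIso_of_isIso_app _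

end GrothLib.BigEt
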