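import Groth.Agent.Lib.BigEt.AbPullback
import Groth.Agent.Lib.BigEt.Proper

/-!
# Relative sections of a direct image of an abelian sheaf under a proper map
-/

set_option autoImplicit false
universe u

open CategoryTheory CategoryTheory.Limits AlgebraicGeometry Opposite
open GrothLib.EtSite GrothLib.EtSec

set_option backward.isDefEq.respectTransparency.types false

noncomputable section

namespace GrothLib.BigEt

variable {T S : Scheme.{u}} (f : T ⟶ S) (J : GrothendieckTopology (Over S)) (J' : GrothendieckTopology (Over T))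
  (hJ'le : J' ≤ QuotSh.J Scheme.fpqcPrecoverage T)
  [(Over.pullback f).IsContinuous J J']

/-- Direct image of the sheaf of relative sections. -/
abbrev pushSecsAb (F : EtCoh.Ab T) : Sheaf J AddCommGrpCat.{u + 1} :=
  ((Over.pullback f).sheafPushforwardContinuous AddCommGrpCat.{u + 1} J J').obj
    ((secsAbSheafFunctor J' hJ'le).obj F)

/-- Sections of a direct image as sections on base changes. -/
def pushUnitAb (F : EtCoh.Ab T) :
    ((EtCoh.push f).obj F).obj ⟶ (EtFppf.a S).op ⋙ (pushSecsAb f J J' hJ'le F).obj where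
  app W := AddCommGrpCat.ofHom (AddMonoidHom.mk' (fun t => secOf (forgetSh F) (U := (EtCoh.bc f).obj W.unop) t)
    secOf_add)
  naturality W W' r := by
    ext t
    exact NatTrans.naturality_apply (pushUnit f (forgetSh F)) r t

variable [IsProper f]

theorem exists_isIso_pushCompAb (hJ : QuotSh.J Scheme.etalePrecoverage S ≤ J) (F : EtCoh.Ab T) :
    ∃ ψ : secsAb ((EtCoh.push f).obj F) ⟶ (pushSecsAb f J J' hJ'le F).obj, IsIso ψ := by
  obtain ⟨ψ, hψ, -⟩ := exists_unique_extAb hJ (pushSecsAb f J J' hJ'le F) (pushUnitAb f J J' hJ'le F)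
  let ψ' : secsPsh ((EtDesc.pushSh f).obj (forgetSh F)) ⟶ pushPsh f (forgetSh F) :=
    Functor.whiskerRight ψ (forget AddCommGrpCat.{u + 1})
  have hψ' : ∀ (W : S.Etale) (t : EtDesc.sect ((EtDesc.pushSh f).obj (forgetSh F)) W),
      ψ'.app (op ((EtFppf.a S).obj W)) (secOf ((EtDesc.pushSh f).obj (forgetSh F)) t) =
        (pushUnit f (forgetSh F)).app (op W) t := hψ
  have e : ψ' = pushComp f (forgetSh F) :=
    (exists_unique_ext (pushPsh f (forgetSh F)) (isSheaf_pushPsh f (forgetSh F)) (pushUnit f (forgetSh F))).unique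
      hψ' (pushComp_secOf f (forgetSh F))
  refine ⟨ψ, ?_⟩
  haveI : ∀ V, IsIso (ψ.app V) := fun V => by
    refine (ConcreteCategory.isIso_iff_bijective _).2 ?_
    have h : Function.Bijective (ψ'.app V) := by
      rw [e]
      exact ⟨pushComp_injective f (forgetSh F) V.unop, pushComp_surjective f (forgetSh F) V.unop⟩
    exact h
  exact NatIso.isIso_of_isIso_app _

end GrothLib.BigEt
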