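import Groth.Agent.Lib.BigEt.Pullback
import Groth.Agent.Lib.EtSec.AbSecs

/-!
# The inverse image of an abelian sheaf on a big site
-/

set_option autoImplicit false
universe u

open CategoryTheory CategoryTheory.Limits AlgebraicGeometry Opposite
open GrothLib.EtSite GrothLib.EtSec

set_option backward.isDefEq.respectTransparency.types false

noncomputable section

namespace GrothLib.BigEt

variable {S : Scheme.{u}}

/-- The map of underlying sheaves of sets. -/
abbrev forgetShMap {F G : EtCoh.Ab S} (α : F ⟶ G) : forgetSh F ⟶ forgetSh G :=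
  (sheafCompose S.smallEtaleTopology (forget AddCommGrpCat.{u + 1})).map α

theorem secsMap_add {F G : EtCoh.Ab S} (α : F ⟶ G) {Z : Scheme.{u}} {a : Z ⟶ S} (σ τ : Secs a (forgetSh F)) :
    secsMap (forgetShMap α) (σ + τ) = secsMap (forgetShMap α) σ + secsMap (forgetShMap α) τ :=
  ext_valAb fun Ω _ _ p η h => by
    rw [valAb_add]
    refine (stalkForget_naturality (F := F) Ω α _).trans ?_
    refine Eq.trans ?_ (congrArg₂ (· + ·) (stalkForget_naturality (F := F) Ω α _).symm
      (stalkForget_naturality (F := F) Ω α _).symm)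
    exact (congrArg _ (valAb_add Ω p η h σ τ)).trans (map_add _ _ _)

/-- The presheaf of groups of relative sections. -/
def secsAb (F : EtCoh.Ab S) : (Over S)ᵒᵖ ⥤ AddCommGrpCat.{u + 1} where
  obj T := AddCommGrpCat.of (Secs T.unop.hom (forgetSh F))
  map {T T'} g := AddCommGrpCat.ofHom
    (AddMonoidHom.mk' (fun σ => Secs.res g.unop.left (Over.w g.unop) σ) (fun σ τ => res_add _ _ σ τ))
  map_id T := by ext σ; exact σ.res_id
  map_comp g g' := by
    ext σ
    exact (Secs.res_comp g.unop.left (Over.w g.unop) g'.unop.left (Over.w g'.unop) σ).symm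

/-- Relative sections as a functor to presheaves of groups. -/
def secsAbFunctor (S : Scheme.{u}) : EtCoh.Ab S ⥤ ((Over S)ᵒᵖ ⥤ AddCommGrpCat.{u + 1}) where
  obj F := secsAb F
  map α :=
    { app := fun T => AddCommGrpCat.ofHom
        (AddMonoidHom.mk' (secsMap (forgetShMap α)) (secsMap_add α))
      naturality := fun _ _ _ => by ext σ; rfl }
  map_id F := by
    ext T σ
    show secsMap (forgetShMap (𝟙 F)) σ = σ
    rw [forgetShMap, CategoryTheory.Functor.map_id]; exact secsMap_id σ
  map_comp α β := by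
    ext T σ
    show secsMap (forgetShMap (α ≫ β)) σ = secsMap (forgetShMap β) (secsMap (forgetShMap α) σ)
    rw [forgetShMap, CategoryTheory.Functor.map_comp]; exact secsMap_comp _ _ σ

theorem isSheaf_secsAb_fpqc (F : EtCoh.Ab S) :
    Presheaf.IsSheaf (QuotSh.J Scheme.fpqcPrecoverage S) (secsAb F) :=
  (Presheaf.isSheaf_iff_isSheaf_forget _ _ (forget AddCommGrpCat.{u + 1})).2
    ((isSheaf_iff_isSheaf_of_type _ _).2 (isSheaf_secsPsh_fpqc (forgetSh F)))

variable {J : GrothendieckTopology (Over S)}

theorem isSheaf_forget_of_le (hJ' : QuotSh.J Scheme.etalePrecoverage S ≤ J) (G : Sheaf J AddCommGrpCat.{u + 1}) :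
    Presieve.IsSheaf (QuotSh.J Scheme.etalePrecoverage S) (G.obj ⋙ forget AddCommGrpCat.{u + 1}) :=
  Presieve.isSheaf_of_le _ hJ' ((isSheaf_iff_isSheaf_of_type _ _).1
    ((Presheaf.isSheaf_iff_isSheaf_forget _ _ (forget AddCommGrpCat.{u + 1})).1 G.property))

/-- The universal property for sheaves of groups. -/
theorem exists_unique_extAb {F : EtCoh.Ab S} (hJ' : QuotSh.J Scheme.etalePrecoverage S ≤ J)
    (G : Sheaf J AddCommGrpCat.{u + 1}) (φ : F.obj ⟶ (EtFppf.a S).op ⋙ G.obj) :
    ∃! ψ : secsAb F ⟶ G.obj, ∀ (W : S.Etale) (t : EtCoh.sect F W),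
      ψ.app (op ((EtFppf.a S).obj W)) (secOf (forgetSh F) (U := W) t) = φ.app (op W) t := by
  have hG := isSheaf_forget_of_le hJ' G
  let φ' : (forgetSh F).obj ⟶ (EtFppf.a S).op ⋙ G.obj ⋙ forget AddCommGrpCat.{u + 1} :=
    Functor.whiskerRight φ (forget AddCommGrpCat.{u + 1})
  obtain ⟨ψ, hψ, huniq⟩ := exists_unique_ext (G.obj ⋙ forget AddCommGrpCat.{u + 1}) hG φ'
  have key : ∀ (T : Over S) (W : S.Etale) (m : T.left ⟶ W.left) (hm : m ≫ W.hom = T.hom) (t : EtCoh.sect F W),
      ψ.app (op T) (Secs.ofSect (F := forgetSh F) m hm t) = G.obj.map (toA m hm).op (φ.app (op W) t) := by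
    intro T W m hm t
    refine (congrArg _ (ofSect_eq (forgetSh F) m hm t)).trans ?_
    refine (NatTrans.naturality_apply ψ (toA m hm).op (secOf (forgetSh F) (U := W) t)).trans ?_
    exact congrArg (G.obj.map (toA m hm).op) (hψ W t)
  have hadd : ∀ (T : Over S) (σ τ : Secs T.hom (forgetSh F)),
      (show G.obj.obj (op T) from ψ.app (op T) (σ + τ)) =
        (show G.obj.obj (op T) from ψ.app (op T) σ) + (show G.obj.obj (op T) from ψ.app (op T) τ) := by
    intro T σ τ
    let R : Sieve T :=
      { arrows := fun T' g => G.obj.map g.op (show G.obj.obj (op T) from ψ.app (op T) (σ + τ)) =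
          G.obj.map g.op ((show G.obj.obj (op T) from ψ.app (op T) σ) + (show G.obj.obj (op T) from ψ.app (op T) τ))
        downward_closed := fun {_ _} g hg k => by
          rw [op_comp, Functor.map_comp, ConcreteCategory.comp_apply, hg, ConcreteCategory.comp_apply] }
    refine (hG R (mem_of_etale R fun x => ?_)).isSeparatedFor.ext fun T' g hg => hg
    obtain ⟨V, v, hv, z', W, m, hm, t, t', hz, h₁, h₂⟩ := exists_common σ τ x
    refine ⟨V, v, hv, ⟨z', hz⟩, ?_⟩
    let g : Over.mk (v ≫ T.hom) ⟶ T := Over.homMk v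
    have nat : ∀ ρ : Secs T.hom (forgetSh F), G.obj.map g.op (show G.obj.obj (op T) from ψ.app (op T) ρ) =
        ψ.app (op (Over.mk (v ≫ T.hom))) (ρ.res v rfl) := fun ρ =>
      (NatTrans.naturality_apply ψ g.op ρ).symm
    have e : (σ + τ).res v rfl = Secs.ofSect (F := forgetSh F) m hm
        ((show EtCoh.sect F W from t) + (show EtCoh.sect F W from t') : EtCoh.sect F W) :=
      (res_add v rfl σ τ).trans ((congrArg₂ (· + ·) h₁ h₂).trans (ofSect_add m hm _ _).symm)
    show G.obj.map g.op _ = G.obj.map g.op _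
    refine (nat _).trans ?_
    rw [map_add, nat, nat, e, h₁, h₂, key, key, key, map_add, map_add]
  refine ⟨{ app := fun T => AddCommGrpCat.ofHom (AddMonoidHom.mk' (fun σ => ψ.app T σ) (hadd T.unop)),
            naturality := fun T T' g => by ext σ; exact NatTrans.naturality_apply ψ g σ }, hψ, fun χ hχ => ?_⟩
  ext T σ
  exact congrArg (fun k : secsPsh (forgetSh F) ⟶ G.obj ⋙ forget AddCommGrpCat.{u + 1} => k.app T σ)
    (huniq (Functor.whiskerRight χ (forget AddCommGrpCat.{u + 1})) hχ)

variable (J) (hJ : J ≤ QuotSh.J Scheme.fpqcPrecoverage S)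

/-- Relative sections as a functor to sheaves of groups. -/
def secsAbSheafFunctor : EtCoh.Ab S ⥤ Sheaf J AddCommGrpCat.{u + 1} where
  obj F := ⟨secsAb F, (Presheaf.isSheaf_iff_isSheaf_forget _ _ (forget AddCommGrpCat.{u + 1})).2
    ((isSheaf_iff_isSheaf_of_type _ _).2 (Presieve.isSheaf_of_le _ hJ (isSheaf_secsPsh_fpqc (forgetSh F))))⟩
  map α := ObjectProperty.homMk ((secsAbFunctor S).map α)
  map_id F := ObjectProperty.hom_ext _ ((secsAbFunctor S).map_id F)
  map_comp α β := ObjectProperty.hom_ext _ ((secsAbFunctor S).map_comp α β)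

variable (hJ' : QuotSh.J Scheme.etalePrecoverage S ≤ J)
  [(EtFppf.a S).IsContinuous S.smallEtaleTopology J]

/-- Sections as relative sections. -/
def secsAbUnit : 𝟭 (EtCoh.Ab S) ⟶
    secsAbSheafFunctor J hJ ⋙
      (EtFppf.a S).sheafPushforwardContinuous AddCommGrpCat.{u + 1} S.smallEtaleTopology J where
  app F := ObjectProperty.homMk
    { app := fun W => AddCommGrpCat.ofHom (AddMonoidHom.mk' (fun t => secOf (forgetSh F) t) secOf_add)
      naturality := fun W W' r => by ext t; exact secOf_map (forgetSh F) r.unop t }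
  naturality F G α := by
    refine ObjectProperty.hom_ext _ ?_
    ext W t
    exact (secsMap_ofSect (forgetShMap α) (𝟙 W.unop.left) (Category.id_comp W.unop.hom) t).symm

/-- The comparison of the inverse image with relative sections. -/
def secsAbComparison :
    (EtFppf.a S).sheafPullback AddCommGrpCat.{u + 1} S.smallEtaleTopology J ⟶ secsAbSheafFunctor J hJ where
  app F := (((EtFppf.a S).sheafAdjunctionContinuous AddCommGrpCat.{u + 1} S.smallEtaleTopology J).homEquiv _ _).symm
    ((secsAbUnit J hJ).app F)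
  naturality F G α := by
    rw [← Adjunction.homEquiv_naturality_right_symm, ← Adjunction.homEquiv_naturality_left_symm]
    exact congrArg _ ((secsAbUnit J hJ).naturality α)

theorem unit_secsAbComparison (F : EtCoh.Ab S) :
    ((EtFppf.a S).sheafAdjunctionContinuous AddCommGrpCat.{u + 1} S.smallEtaleTopology J).unit.app F ≫
      ((EtFppf.a S).sheafPushforwardContinuous _ _ J).map ((secsAbComparison J hJ).app F) =
        (secsAbUnit J hJ).app F :=
  ((((EtFppf.a S).sheafAdjunctionContinuous AddCommGrpCat.{u + 1} S.smallEtaleTopology J).homEquiv_unit F _ _).symm).trans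
    (Equiv.apply_symm_apply _ _)

include hJ' in
theorem isIso_secsAbComparison (F : EtCoh.Ab S) : IsIso ((secsAbComparison J hJ).app F) := by
  let adj := (EtFppf.a S).sheafAdjunctionContinuous AddCommGrpCat.{u + 1} S.smallEtaleTopology J
  let L := (EtFppf.a S).sheafPullback AddCommGrpCat.{u + 1} S.smallEtaleTopology J
  let Φ : L.obj F ⟶ (secsAbSheafFunctor J hJ).obj F := (secsAbComparison J hJ).app F
  have hΦ : adj.unit.app F ≫ ((EtFppf.a S).sheafPushforwardContinuous _ _ J).map Φ = (secsAbUnit J hJ).app F :=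
    unit_secsAbComparison J hJ F
  obtain ⟨ψ, hψ, -⟩ := exists_unique_extAb hJ' (L.obj F) (adj.unit.app F).hom
  let Ψ : (secsAbSheafFunctor J hJ).obj F ⟶ L.obj F := ObjectProperty.homMk ψ
  refine ⟨Ψ, ?_, ?_⟩
  · refine (adj.homEquiv _ _).injective ?_
    rw [adj.homEquiv_unit, adj.homEquiv_unit, Functor.map_comp, ← Category.assoc, hΦ,
      CategoryTheory.Functor.map_id]
    refine Eq.trans ?_ (Category.comp_id _).symm
    refine ObjectProperty.hom_ext _ ?_
    ext W t
    exact hψ W.unop t
  · obtain ⟨χ, -, huniq⟩ := exists_unique_extAb hJ' ((secsAbSheafFunctor J hJ).obj F) ((secsAbUnit J hJ).app F).hom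
    refine ObjectProperty.hom_ext _ ?_
    refine ((huniq (ψ ≫ Φ.hom) fun W t => ?_).trans (huniq (𝟙 _) fun W t => rfl).symm)
    show Φ.hom.app (op ((EtFppf.a S).obj W)) (ψ.app (op ((EtFppf.a S).obj W)) (secOf (forgetSh F) (U := W) t)) = _
    refine (congrArg (Φ.hom.app (op ((EtFppf.a S).obj W))) (hψ W t)).trans ?_
    exact congrArg (fun k : F ⟶ _ => k.hom.app (op W) t) hΦ

/-- The inverse image to a big site is given by relative sections. -/
def secsAbIso :
    (EtFppf.a S).sheafPullback AddCommGrpCat.{u + 1} S.smallEtaleTopology J ≅ secsAbSheafFunctor J hJ :=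
  haveI := fun F => isIso_secsAbComparison J hJ hJ' F
  NatIso.ofComponents (fun F => asIso ((secsAbComparison J hJ).app F))
    (fun α => (secsAbComparison J hJ).naturality α)

theorem secOf_id_bijective (F : EtDesc.Sh S) (W : S.Etale) : Function.Bijective (secOf F (U := W)) :=
  secOf_bijective F W

include hJ hJ' in
/-- The unit is an isomorphism. -/
theorem isIso_unit_secsAb (F : EtCoh.Ab S) :
    IsIso (((EtFppf.a S).sheafAdjunctionContinuous AddCommGrpCat.{u + 1} S.smallEtaleTopology J).unit.app F) := by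
  haveI := isIso_secsAbComparison J hJ hJ' F
  haveI : IsIso ((secsAbUnit J hJ).app F) := by
    haveI : IsIso ((sheafToPresheaf _ _).map ((secsAbUnit J hJ).app F)) := by
      haveI : ∀ W, IsIso (((sheafToPresheaf _ _).map ((secsAbUnit J hJ).app F)).app W) := fun W =>
        ConcreteCategory.isIso_iff_bijective _ |>.2 (secOf_bijective (forgetSh F) W.unop)
      exact NatIso.isIso_of_isIso_app _
    exact isIso_of_fully_faithful (sheafToPresheaf _ _) _
  exact IsIso.of_isIso_fac_right (unit_secsAbComparison J hJ F)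

end GrothLib.BigEt
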