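import Groth.Agent.Lib.BigEt.AbPullback

/-!
# Sections of the inverse image of an abelian sheaf on a big site
-/

set_option autoImplicit false
universe u

open CategoryTheory CategoryTheory.Limits AlgebraicGeometry Opposite
open GrothLib.EtSite GrothLib.EtSec

set_option backward.isDefEq.respectTransparency.types false

noncomputable section

namespace GrothLib.BigEt

variable {S : Scheme.{u}}

/-- Sections of an inverse image on the whole scheme as relative sections. -/
def topSecsHom {T : Scheme.{u}} (f : T ⟶ S) (F : EtCoh.Ab S) :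
    EtCoh.sect ((EtCoh.pull f).obj F) (EtCoh.top T) →+ Secs f (forgetSh F) :=
  AddMonoidHom.mk'
    (fun σ => (toSecsAb f F σ).res (𝟙 T) (a' := f)
      ((Category.id_comp _).trans (Category.id_comp f)))
    (fun σ τ => (congrArg (fun ρ : Secs ((EtCoh.top T).hom ≫ f) (forgetSh F) => ρ.res (𝟙 T) (a' := f)
      ((Category.id_comp _).trans (Category.id_comp f))) (toSecsAb_add (F := F) f σ τ)).trans (res_add _ _ _ _))

theorem topSecsHom_bijective {T : Scheme.{u}} (f : T ⟶ S) (F : EtCoh.Ab S) :
    Function.Bijective (topSecsHom f F) := by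
  have h : (EtCoh.top T).hom ≫ f = f := Category.id_comp f
  refine Function.Bijective.comp (g := fun ρ : Secs ((EtCoh.top T).hom ≫ f) (forgetSh F) =>
    ρ.res (𝟙 T) (a' := f) ((Category.id_comp _).trans h)) ?_ (toSecsAb_bijective f F (EtCoh.top T))
  refine ⟨fun a b e => ?_, fun c => ⟨c.res (𝟙 T) ((Category.id_comp f).trans h.symm), ?_⟩⟩
  · refine Secs.ext' fun Ω _ _ p η hp => ?_
    have hp' : p ≫ f = η := (congrArg (p ≫ ·) h.symm).trans hp
    have e' := congrArg (fun ρ : Secs f (forgetSh F) => ρ.val Ω p η hp') e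
    exact (a.val_congr (Category.comp_id p).symm _ _).trans (e'.trans (b.val_congr (Category.comp_id p) _ _))
  · exact Secs.ext' fun Ω _ _ p η hp =>
      c.val_congr ((congrArg (· ≫ 𝟙 T) (Category.comp_id p)).trans (Category.comp_id p)) _ hp

/-- Sections of the inverse image to a big site. -/
def sectionsIso (J : GrothendieckTopology (Over S)) (hJ : J ≤ QuotSh.J Scheme.fpqcPrecoverage S)
    (hJ' : QuotSh.J Scheme.etalePrecoverage S ≤ J) [(EtFppf.a S).IsContinuous S.smallEtaleTopology J]
    (F : EtCoh.Ab S) {T : Scheme.{u}} (f : T ⟶ S) :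
    (((EtFppf.a S).sheafPullback AddCommGrpCat.{u + 1} S.smallEtaleTopology J).obj F).obj.obj (op (Over.mk f)) ≅
      ((EtCoh.pull f).obj F).obj.obj (op (EtCoh.top T)) :=
  ((sheafToPresheaf _ _).mapIso ((secsAbIso J hJ hJ').app F)).app (op (Over.mk f)) ≪≫
    (AddEquiv.ofBijective (topSecsHom f F) (topSecsHom_bijective f F)).symm.toAddCommGrpIso

end GrothLib.BigEt
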