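import Groth.Prelude.Def_BigSite
import Mathlib.CategoryTheory.Sites.LocallyBijective
import Mathlib.CategoryTheory.Sites.Limits
import Mathlib.CategoryTheory.Limits.Types.Colimits
import Mathlib.CategoryTheory.Limits.FunctorCategory.Basic
import Mathlib.CategoryTheory.IsConnected

/-!
# Almost cocontinuous functors between large sites
-/

set_option autoImplicit false

universe u

open CategoryTheory Limits Opposite

namespace GrothLib.BigEt.AlmostCocont

variable {C D : Type (u + 1)} [Category.{u} C] [Category.{u} D]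
  (J : GrothendieckTopology C) (K : GrothendieckTopology D) (u : C ⥤ D) [u.IsContinuous J K]

/-- the singleton condition -/
def EmptyPoint (G : Dᵒᵖ ⥤ Type (u + 1)) : Prop := ∀ V : D, (⊥ : Sieve V) ∈ K V → Nonempty (Unique (G.obj (op V)))

theorem emptyPoint_sheaf (F : Sheaf K (Type (u + 1))) : EmptyPoint K F.obj := fun V hV =>
  ⟨Types.isTerminalEquivUnique _ (Sheaf.isTerminalOfBotCover F V hV)⟩

/-- restriction of the sheafification map -/
noncomputable abbrev θ (G : Dᵒᵖ ⥤ Type (u + 1)) :
    u.op ⋙ G ⟶ ((u.sheafPushforwardContinuous (Type (u + 1)) J K).obj ((presheafToSheaf K (Type (u + 1))).obj G)).obj :=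
  Functor.whiskerLeft u.op (toSheafify K G)

variable (hu : BigSite.IsAlmostCocontinuous u J K) {G : Dᵒᵖ ⥤ Type (u + 1)} (hG : EmptyPoint K G)

include hu hG in
theorem θ_locallySurjective : Presheaf.IsLocallySurjective J (θ J K u G) := by
  refine ⟨fun {U} s => ?_⟩
  obtain ⟨R', hR', h⟩ := hu U _ (Presheaf.imageSieve_mem K (toSheafify K G) s)
  refine J.superset_covering (fun V g hg => ?_) hR'
  rcases h g hg with he | hr
  · obtain ⟨i⟩ := hG _ he
    obtain ⟨j⟩ := emptyPoint_sheaf K ((presheafToSheaf K (Type (u + 1))).obj G) _ he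
    exact ⟨i.default, (j.uniq _).trans (j.uniq _).symm⟩
  · exact hr

include hu hG in
theorem θ_locallyInjective : Presheaf.IsLocallyInjective J (θ J K u G) := by
  refine ⟨fun {X} a b hab => ?_⟩
  obtain ⟨R', hR', h⟩ := hu X.unop _ (Presheaf.equalizerSieve_mem K (toSheafify K G) (X := op (u.obj X.unop)) a b hab)
  refine J.superset_covering (fun V g hg => ?_) hR'
  rcases h g hg with he | hr
  · obtain ⟨i⟩ := hG _ he
    exact (i.uniq _).trans (i.uniq _).symm
  · exact hr

include hu hG in
theorem isIso_comparison :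
    IsIso (((sheafificationAdjunction J (Type (u + 1))).homEquiv (u.op ⋙ G)
      ((u.sheafPushforwardContinuous (Type (u + 1)) J K).obj ((presheafToSheaf K (Type (u + 1))).obj G))).symm (θ J K u G)) := by
  haveI := θ_locallyInjective J K u hu hG
  haveI := θ_locallySurjective J K u hu hG
  have hW : J.W (θ J K u G) := (J.W_iff_isLocallyBijective _).2 ⟨inferInstance, inferInstance⟩
  rw [Adjunction.homEquiv_counit]
  haveI : IsIso ((presheafToSheaf J (Type (u + 1))).map (θ J K u G)) := (J.W_iff _).1 hW
  infer_instance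

/-- the comparison as a natural transformation -/
noncomputable def τ : (Functor.whiskeringLeft Cᵒᵖ Dᵒᵖ (Type (u + 1))).obj u.op ⋙ presheafToSheaf J (Type (u + 1)) ⟶
    presheafToSheaf K (Type (u + 1)) ⋙ u.sheafPushforwardContinuous (Type (u + 1)) J K where
  app G := ((sheafificationAdjunction J (Type (u + 1))).homEquiv (u.op ⋙ G)
    ((u.sheafPushforwardContinuous (Type (u + 1)) J K).obj ((presheafToSheaf K (Type (u + 1))).obj G))).symm (θ J K u G)
  naturality G H f := by
    refine ((sheafificationAdjunction J (Type (u + 1))).homEquiv_naturality_left_symm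
      (Y := (u.sheafPushforwardContinuous (Type (u + 1)) J K).obj ((presheafToSheaf K (Type (u + 1))).obj H))
      (((Functor.whiskeringLeft Cᵒᵖ Dᵒᵖ (Type (u + 1))).obj u.op).map f) (θ J K u H)).symm.trans ?_
    refine Eq.trans ?_ ((sheafificationAdjunction J (Type (u + 1))).homEquiv_naturality_right_symm
      (θ J K u G) ((u.sheafPushforwardContinuous (Type (u + 1)) J K).map ((presheafToSheaf K (Type (u + 1))).map f)))
    congr 1
    exact congrArg (Functor.whiskerLeft u.op) (toSheafify_naturality K f)

theorem emptyPoint_colimit {I : Type} [SmallCategory I] [IsConnected I] {P : I ⥤ Dᵒᵖ ⥤ Type (u + 1)}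
    (hP : ∀ i, EmptyPoint K (P.obj i)) {c : Cocone P} (hc : IsColimit c) : EmptyPoint K c.pt := fun V hV => by
  have h := isColimitOfPreserves ((evaluation Dᵒᵖ (Type (u + 1))).obj (op V)) hc
  let x : ∀ i, (P.obj i).obj (op V) := fun i => (hP i V hV).some.default
  have hx : ∀ i (a : (P.obj i).obj (op V)), a = x i := fun i a => (hP i V hV).some.uniq a
  let q : I → c.pt.obj (op V) := fun i => (c.ι.app i).app (op V) (x i)
  have hq : ∀ i j : I, q i = q j := fun i j =>
    constant_of_preserves_morphisms q (fun i j f => by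
      have := ConcreteCategory.congr_hom (NatTrans.congr_app (c.w f) (op V)) (x i)
      exact this.symm.trans (congrArg ((c.ι.app j).app (op V)) (hx j _))) i j
  obtain ⟨i₀⟩ := (inferInstance : Nonempty I)
  refine ⟨{ default := q i₀, uniq := fun y => ?_ }⟩
  obtain ⟨i, a, rfl⟩ := Types.jointly_surjective _ h y
  exact (congrArg ((c.ι.app i).app (op V)) (hx i a)).trans (hq i i₀)

include hu in
theorem preservesColimitsOfShape (I : Type) [SmallCategory I] [IsConnected I] :
    PreservesColimitsOfShape I (u.sheafPushforwardContinuous (Type (u + 1)) J K) := by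
  refine ⟨fun {F} => ?_⟩
  let P := F ⋙ sheafToPresheaf K (Type (u + 1))
  have eF : P ⋙ presheafToSheaf K (Type (u + 1)) ≅ F :=
    Functor.associator _ _ _ ≪≫ Functor.isoWhiskerLeft F (asIso (sheafificationAdjunction K (Type (u + 1))).counit) ≪≫
      Functor.rightUnitor F
  haveI : PreservesColimit (P ⋙ presheafToSheaf K (Type (u + 1))) (u.sheafPushforwardContinuous (Type (u + 1)) J K) := by
    let c := colimit.cocone P
    let hc := colimit.isColimit P
    haveI : PreservesColimitsOfSize.{0, 0} (presheafToSheaf K (Type (u + 1))) :=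
      (sheafificationAdjunction K (Type (u + 1))).leftAdjoint_preservesColimits
    haveI : PreservesColimitsOfSize.{0, 0} (presheafToSheaf J (Type (u + 1))) :=
      (sheafificationAdjunction J (Type (u + 1))).leftAdjoint_preservesColimits
    refine preservesColimit_of_preserves_colimit_cocone (isColimitOfPreserves _ hc) ?_
    have hA := isColimitOfPreserves ((Functor.whiskeringLeft Cᵒᵖ Dᵒᵖ (Type (u + 1))).obj u.op ⋙ presheafToSheaf J (Type (u + 1))) hc
    haveI : ∀ i, IsIso ((τ J K u).app (P.obj i)) := fun i => isIso_comparison J K u hu (emptyPoint_sheaf K (F.obj i))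
    haveI : IsIso ((τ J K u).app c.pt) :=
      isIso_comparison J K u hu (emptyPoint_colimit K (fun i => emptyPoint_sheaf K (F.obj i)) hc)
    let α : P ⋙ (Functor.whiskeringLeft Cᵒᵖ Dᵒᵖ (Type (u + 1))).obj u.op ⋙ presheafToSheaf J (Type (u + 1)) ≅
        (P ⋙ presheafToSheaf K (Type (u + 1))) ⋙ u.sheafPushforwardContinuous (Type (u + 1)) J K :=
      NatIso.ofComponents (fun i => @asIso _ _ _ _ ((τ J K u).app (P.obj i)) _)
        (fun {i j} f => (τ J K u).naturality (P.map f))
    refine (IsColimit.equivOfNatIsoOfIso α _ _ ?_) hA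
    refine Cocone.ext (@asIso _ _ _ _ ((τ J K u).app c.pt) _) fun i => ?_
    change (inv ((τ J K u).app (P.obj i)) ≫ _) ≫ _ = _
    rw [Category.assoc, IsIso.inv_comp_eq]
    exact (τ J K u).naturality (c.ι.app i)
  exact preservesColimit_of_iso_diagram _ eF

end GrothLib.BigEt.AlmostCocont
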