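import Groth.Agent.Lib.BigEt.Sheaf
import Groth.Agent.Lib.EtSec.Global
import Groth.Prelude.Def_EtFppf

/-!
# Relative sections are the universal big sheaf under an etale sheaf
-/

set_option autoImplicit false
universe u

open CategoryTheory CategoryTheory.Limits AlgebraicGeometry Opposite
open GrothLib.EtSite GrothLib.EtSec

set_option backward.isDefEq.respectTransparency.types false

noncomputable section

namespace GrothLib.BigEt

variable {S : Scheme.{u}}

theorem over_mono {J J' : GrothendieckTopology Scheme.{u}} (h : J ≤ J') : J.over S ≤ J'.over S :=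
  fun _ _ hR => h _ hR

theorem etale_le_fppf : QuotSh.J Scheme.etalePrecoverage S ≤ EtFppf.J S :=
  over_mono (Precoverage.toGrothendieck_mono (Scheme.precoverage_mono fun X Y f (_ : Etale f) =>
    ⟨inferInstance, inferInstance⟩))

theorem fppf_le_fpqc : EtFppf.J S ≤ QuotSh.J Scheme.fpqcPrecoverage S :=
  over_mono (Precoverage.toGrothendieck_mono Scheme.fppfPrecoverage_le_fpqcPrecoverage)

theorem isSheaf_secsPsh_fppf (F : EtDesc.Sh S) : Presieve.IsSheaf (EtFppf.J S) (secsPsh F) :=
  Presieve.isSheaf_of_le _ fppf_le_fpqc (isSheaf_secsPsh_fpqc F)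

theorem isSheaf_secsPsh_etale (F : EtDesc.Sh S) :
    Presieve.IsSheaf (QuotSh.J Scheme.etalePrecoverage S) (secsPsh F) :=
  Presieve.isSheaf_of_le _ etale_le_fppf (isSheaf_secsPsh_fppf F)

/-- A sieve containing an etale neighbourhood of every point covers. -/
theorem mem_of_etale {T : Over S} (R : Sieve T)
    (h : ∀ x : T.left, ∃ (V : Scheme.{u}) (v : V ⟶ T.left), Etale v ∧ x ∈ Set.range v.base ∧
      R (Over.homMk v : Over.mk (v ≫ T.hom) ⟶ T)) :
    R ∈ (QuotSh.J Scheme.etalePrecoverage S) T := by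
  choose V v hv hx hR using h
  change Sieve.overEquiv T R ∈ (Scheme.precoverage @Etale).toGrothendieck T.left
  refine Precoverage.mem_toGrothendieck_iff_of_isStableUnderComposition.2 ⟨Presieve.ofArrows V v, ?_, ?_⟩
  · exact (Scheme.ofArrows_mem_precoverage_iff @Etale).2 ⟨fun x => ⟨x, hx x⟩, hv⟩
  · rintro _ _ ⟨x⟩
    exact (Sieve.overEquiv_iff R (v x)).2 (hR x)

variable {F : EtDesc.Sh S}

/-- The object of the big site given by a scheme etale over the base, and the map to it. -/
abbrev toA {T : Over S} {W : S.Etale} (m : T.left ⟶ W.left) (hm : m ≫ W.hom = T.hom) :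
    T ⟶ (EtFppf.a S).obj W := Over.homMk m hm

/-- Two descriptions of the same section agree etale locally through a common refinement. -/
theorem exists_refine {T : Over S} {W W' : S.Etale} (m : T.left ⟶ W.left) (hm : m ≫ W.hom = T.hom)
    (m' : T.left ⟶ W'.left) (hm' : m' ≫ W'.hom = T.hom) (t : EtDesc.sect F W) (t' : EtDesc.sect F W')
    (h : Secs.ofSect m hm t = Secs.ofSect m' hm' t') (x : T.left) :
    ∃ (V : Scheme.{u}) (v : V ⟶ T.left), Etale v ∧ x ∈ Set.range v.base ∧
      ∃ (W'' : S.Etale) (r : W'' ⟶ W) (r' : W'' ⟶ W') (k : V ⟶ W''.left),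
        k ≫ r.left = v ≫ m ∧ k ≫ r'.left = v ≫ m' ∧ F.obj.map r.op t = F.obj.map r'.op t' := by
  obtain ⟨Ω, _, _, p, rfl⟩ := Secs.exists_point x
  have e := congrArg (fun σ : Secs T.hom F => σ.val Ω p (p ≫ T.hom) rfl) h
  obtain ⟨W'', r, r', l, hl, hr, hr', he⟩ := gSh_eq e
  let rl : W''.left ⟶ W.left := r.left
  let rl' : W''.left ⟶ W'.left := r'.left
  let wh : W.left ⟶ S := W.hom
  let wh' : W'.left ⟶ S := W'.hom
  haveI : Etale wh := W.prop
  haveI : Etale wh' := W'.prop
  haveI : Etale W''.hom := W''.prop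
  have hrw : rl ≫ wh = rl' ≫ wh' := (hom_left r).trans (hom_left r').symm
  let ρ : W''.left ⟶ pullback wh wh' := pullback.lift rl rl' hrw
  haveI : Etale (pullback.fst wh wh') := MorphismProperty.pullback_fst _ _ ‹Etale wh'›
  haveI : Etale ρ := by
    haveI : Etale (ρ ≫ pullback.fst wh wh' ≫ wh) := by
      rw [pullback.lift_fst_assoc, show rl ≫ wh = W''.hom from hom_left r]
      exact W''.prop
    exact Etale.of_comp ρ (pullback.fst wh wh' ≫ wh)
  let μ : T.left ⟶ pullback wh wh' := pullback.lift m m' (hm.trans hm'.symm)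
  let pV : Spec (CommRingCat.of Ω) ⟶ pullback μ ρ := pullback.lift p l (by
    apply pullback.hom_ext
    · rw [Category.assoc, Category.assoc, pullback.lift_fst, pullback.lift_fst]; exact hr.symm
    · rw [Category.assoc, Category.assoc, pullback.lift_snd, pullback.lift_snd]; exact hr'.symm)
  refine ⟨pullback μ ρ, pullback.fst μ ρ, MorphismProperty.pullback_fst _ _ ‹Etale ρ›, ⟨pV.base default, ?_⟩,
    W'', r, r', pullback.snd μ ρ, ?_, ?_, he⟩
  · exact congrArg (fun j : Spec (CommRingCat.of Ω) ⟶ T.left => j.base default) (pullback.lift_fst _ _ _)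
  · have := congrArg (· ≫ pullback.fst wh wh') (pullback.condition (f := μ) (g := ρ))
    simpa only [μ, ρ, rl, Category.assoc, pullback.lift_fst] using this.symm
  · have := congrArg (· ≫ pullback.snd wh wh') (pullback.condition (f := μ) (g := ρ))
    simpa only [μ, ρ, rl', Category.assoc, pullback.lift_snd] using this.symm

variable (G : (Over S)ᵒᵖ ⥤ Type (u + 1)) (hG : Presieve.IsSheaf (QuotSh.J Scheme.etalePrecoverage S) G)
  (φ : F.obj ⟶ (EtFppf.a S).op ⋙ G)

/-- The value attached to a global description. -/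
def valOf {T : Over S} {W : S.Etale} (m : T.left ⟶ W.left) (hm : m ≫ W.hom = T.hom) (t : EtDesc.sect F W) :
    G.obj (op T) :=
  G.map (toA m hm).op (φ.app (op W) t)

theorem map_valOf {T T' : Over S} (g : T' ⟶ T) {W : S.Etale} (m : T.left ⟶ W.left) (hm : m ≫ W.hom = T.hom)
    (t : EtDesc.sect F W) :
    G.map g.op (valOf G φ m hm t) =
      valOf G φ (g.left ≫ m) ((Category.assoc _ _ _).trans ((congrArg (g.left ≫ ·) hm).trans (Over.w g))) t := by
  rw [valOf, valOf, ← ConcreteCategory.comp_apply, ← Functor.map_comp, ← op_comp]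
  congr 3

theorem valOf_map {T : Over S} {W W' : S.Etale} (r : W' ⟶ W) (m : T.left ⟶ W'.left)
    (hm : m ≫ W'.hom = T.hom) (hm' : (m ≫ r.left) ≫ W.hom = T.hom) (t : EtDesc.sect F W) :
    valOf G φ m hm (F.obj.map r.op t) = valOf G φ (m ≫ r.left) hm' t := by
  rw [valOf, valOf, NatTrans.naturality_apply]
  show G.map (toA m hm).op (G.map ((EtFppf.a S).map r).op (φ.app (op W) t)) = _
  rw [← ConcreteCategory.comp_apply, ← Functor.map_comp, ← op_comp]
  congr 3

theorem valOf_congr {T : Over S} {W : S.Etale} {m m' : T.left ⟶ W.left} (e : m = m') (hm : m ≫ W.hom = T.hom)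
    (hm' : m' ≫ W.hom = T.hom) (t : EtDesc.sect F W) : valOf G φ m hm t = valOf G φ m' hm' t := by
  subst e; rfl

include hG in
theorem valOf_eq {T : Over S} {W W' : S.Etale} (m : T.left ⟶ W.left) (hm : m ≫ W.hom = T.hom)
    (m' : T.left ⟶ W'.left) (hm' : m' ≫ W'.hom = T.hom) (t : EtDesc.sect F W) (t' : EtDesc.sect F W')
    (h : Secs.ofSect m hm t = Secs.ofSect m' hm' t') : valOf G φ m hm t = valOf G φ m' hm' t' := by
  let R : Sieve T :=
    { arrows := fun T' g => G.map g.op (valOf G φ m hm t) = G.map g.op (valOf G φ m' hm' t')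
      downward_closed := fun {_ _} g hg k => by
        rw [op_comp, Functor.map_comp, ConcreteCategory.comp_apply, hg, ConcreteCategory.comp_apply] }
  have hR : R ∈ (QuotSh.J Scheme.etalePrecoverage S) T := by
    refine mem_of_etale R fun x => ?_
    obtain ⟨V, v, hv, hx, W'', r, r', k, hr, hr', he⟩ := exists_refine m hm m' hm' t t' h x
    refine ⟨V, v, hv, hx, ?_⟩
    show G.map _ _ = G.map _ _
    have hk : k ≫ W''.hom = v ≫ T.hom := by
      refine (congrArg (k ≫ ·) (hom_left r).symm).trans ((Category.assoc _ _ _).symm.trans ?_)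
      exact (congrArg (· ≫ W.hom) hr).trans ((Category.assoc _ _ _).trans (congrArg (v ≫ ·) hm))
    rw [map_valOf, map_valOf]
    refine (valOf_congr G φ hr.symm _ ?_ t).trans ?_
    · exact (congrArg (· ≫ W.hom) hr).trans ((Category.assoc _ _ _).trans (congrArg (v ≫ ·) hm))
    refine (valOf_map G φ (T := Over.mk (v ≫ T.hom)) r k hk _ t).symm.trans ?_
    refine (congrArg (valOf G φ (T := Over.mk (v ≫ T.hom)) k hk) he).trans ?_
    refine (valOf_map G φ (T := Over.mk (v ≫ T.hom)) r' k hk ((congrArg (· ≫ W'.hom) hr').trans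
      ((Category.assoc _ _ _).trans (congrArg (v ≫ ·) hm'))) t').trans ?_
    exact valOf_congr G φ hr' _ _ t'
  exact (hG R hR).isSeparatedFor.ext fun T' g hg => hg

/-- The arrows along which a section has a global description. -/
def descSieve {T : Over S} (σ : Secs T.hom F) : Sieve T where
  arrows T' g := ∃ (W : S.Etale) (m : T'.left ⟶ W.left) (hm : m ≫ W.hom = T'.hom) (t : EtDesc.sect F W),
    σ.res g.left (Over.w g) = Secs.ofSect m hm t
  downward_closed := by
    rintro T' T'' g ⟨W, m, hm, t, h⟩ k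
    refine ⟨W, k.left ≫ m, (Category.assoc _ _ _).trans ((congrArg (k.left ≫ ·) hm).trans (Over.w k)), t, ?_⟩
    refine Eq.trans ?_ (Secs.res_ofSect k.left (Over.w k) m hm t)
    rw [← h]
    exact (Secs.res_comp g.left (Over.w g) k.left (Over.w k) σ).symm

theorem descSieve_mem {T : Over S} (σ : Secs T.hom F) :
    descSieve σ ∈ (QuotSh.J Scheme.etalePrecoverage S) T := by
  refine mem_of_etale _ fun x => ?_
  obtain ⟨V, v, hv, z, W, m, hm, t, hz, ht⟩ := σ.loc x
  refine ⟨V, v, hv, ⟨z, hz⟩, W, m, hm, t, Secs.ext' fun Ω _ _ p η h => ?_⟩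
  exact ht Ω p η ((Category.assoc p v T.hom).trans h)

include hG in
/-- The universal property. -/
theorem exists_unique_ext :
    ∃! ψ : secsPsh F ⟶ G, ∀ (W : S.Etale) (t : EtDesc.sect F W),
      ψ.app (op ((EtFppf.a S).obj W)) (secOf F t) = φ.app (op W) t := by
  classical
  choose W m hm t ht using fun (T : Over S) (σ : Secs T.hom F) (T' : Over S) (g : T' ⟶ T)
    (hg : descSieve σ g) => hg
  let fam : ∀ (T : Over S) (σ : Secs T.hom F), Presieve.FamilyOfElements G (descSieve σ).arrows :=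
    fun T σ T' g hg => valOf G φ (m T σ T' g hg) (hm T σ T' g hg) (t T σ T' g hg)
  have hfam : ∀ T σ, (fam T σ).Compatible := by
    intro T σ Y₁ Y₂ Z g₁ g₂ f₁ f₂ h₁ h₂ e
    rw [map_valOf, map_valOf]
    refine valOf_eq G hG φ _ _ _ _ _ _ ?_
    rw [← Secs.res_ofSect g₁.left (Over.w g₁) _ (hm T σ Y₁ f₁ h₁), ← ht,
      ← Secs.res_ofSect g₂.left (Over.w g₂) _ (hm T σ Y₂ f₂ h₂), ← ht, Secs.res_comp, Secs.res_comp]
    exact Secs.res_congr (congrArg CommaMorphism.left e) _ _ σ
  let amal : ∀ T : Over S, Secs T.hom F → G.obj (op T) := fun T σ =>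
    (hG _ (descSieve_mem σ)).amalgamate (fam T σ) (hfam T σ)
  have hamal : ∀ (T : Over S) (σ : Secs T.hom F) (T' : Over S) (g : T' ⟶ T) (W' : S.Etale)
      (m' : T'.left ⟶ W'.left) (hm' : m' ≫ W'.hom = T'.hom) (t' : EtDesc.sect F W'),
      σ.res g.left (Over.w g) = Secs.ofSect m' hm' t' → G.map g.op (amal T σ) = valOf G φ m' hm' t' := by
    intro T σ T' g W' m' hm' t' h
    have hg : descSieve σ g := ⟨W', m', hm', t', h⟩
    rw [(hG _ (descSieve_mem σ)).valid_glue (hfam T σ) g hg]
    exact valOf_eq G hG φ _ _ _ _ _ _ ((ht T σ T' g hg).symm.trans h)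
  have hsep : ∀ (T : Over S) (σ : Secs T.hom F) (a b : G.obj (op T)),
      (∀ (T' : Over S) (g : T' ⟶ T), descSieve σ g → G.map g.op a = G.map g.op b) → a = b :=
    fun T σ a b h => (hG _ (descSieve_mem σ)).isSeparatedFor.ext h
  refine ⟨{ app := fun T => TypeCat.ofHom (amal T.unop), naturality := ?_ }, ?_, fun ψ hψ => ?_⟩
  · rintro ⟨T⟩ ⟨T'⟩ g
    ext σ
    show amal T' (σ.res g.unop.left (Over.w g.unop)) = G.map g (amal T σ)
    refine hsep T' (σ.res g.unop.left (Over.w g.unop)) _ _ fun T'' k hk => ?_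
    obtain ⟨W', m', hm', t', h⟩ := hk
    rw [hamal T' _ T'' k W' m' hm' t' h, ← ConcreteCategory.comp_apply, ← Functor.map_comp]
    exact (hamal T σ T'' (k ≫ g.unop) W' m' hm' t' ((Secs.res_comp _ _ _ _ σ).symm.trans h)).symm
  · intro W' t'
    have h : (secOf F t').res (𝟙 ((EtFppf.a S).obj W') : _ ⟶ _).left (Category.id_comp _) =
        Secs.ofSect (F := F) (a := ((EtFppf.a S).obj W').hom) (𝟙 W'.left) (Category.id_comp _) t' :=
      (secOf F t').res_id
    have e := hamal _ (secOf F t') _ (𝟙 ((EtFppf.a S).obj W')) W' (𝟙 W'.left) (Category.id_comp _) t' h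
    refine ((ConcreteCategory.congr_hom (G.map_id (op ((EtFppf.a S).obj W'))) _).symm.trans e).trans ?_
    show G.map (toA (T := (EtFppf.a S).obj W') (𝟙 W'.left) (Category.id_comp _)).op _ = _
    rw [show toA (T := (EtFppf.a S).obj W') (𝟙 W'.left) (Category.id_comp _) = 𝟙 _ from
      Over.OverMorphism.ext rfl]
    exact ConcreteCategory.congr_hom (G.map_id (op ((EtFppf.a S).obj W'))) _
  · ext ⟨T⟩ σ
    refine hsep T σ _ _ fun T' g hg => ?_
    obtain ⟨W', m', hm', t', h⟩ := hg
    refine Eq.trans ?_ (hamal T σ T' g W' m' hm' t' h).symm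
    refine (NatTrans.naturality_apply ψ g.op σ).symm.trans ?_
    rw [valOf, ← hψ W' t']
    refine Eq.trans ?_ (NatTrans.naturality_apply ψ (toA m' hm').op (secOf F t'))
    exact congrArg _ (h.trans (ofSect_eq F m' hm' t'))

end GrothLib.BigEt
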