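import Groth.Agent.Lib.BigEt.AlmostCocont
import Groth.Agent.Lib.BigEt.Universal
import Groth.Agent.Lib.EtSite.PropC
import Groth.Agent.S0412
import Groth.Prelude.Def_BigSite
import Mathlib.CategoryTheory.Sites.EpiMono
import Mathlib.CategoryTheory.Abelian.Exact

/-!
# Direct image along a closed immersion on big sites
-/

set_option autoImplicit false
universe u

open CategoryTheory CategoryTheory.Limits AlgebraicGeometry Opposite
open GrothLib.EtSite

set_option backward.isDefEq.respectTransparency.types false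

noncomputable section

namespace GrothLib.BigEt

theorem smooth_toGrothendieck_eq :
    (Scheme.precoverage @Smooth).toGrothendieck = Scheme.etalePrecoverage.{u}.toGrothendieck := by
  haveI : MorphismProperty.IsMultiplicative @Smooth :=
    { id_mem := fun X => inferInstanceAs (Smooth (𝟙 X))
      comp_mem := fun f g (_ : Smooth f) (_ : Smooth g) => inferInstanceAs (Smooth (f ≫ g)) }
  haveI : MorphismProperty.RespectsIso @Smooth := MorphismProperty.IsStableUnderBaseChange.respectsIso
  haveI : (Scheme.precoverage @Smooth).HasIsos := inferInstance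
  refine le_antisymm (fun T R hR => ?_)
    (Precoverage.toGrothendieck_mono BigSite.etalePrecoverage_le_smoothPrecoverage)
  obtain ⟨P, hP, hPR⟩ := Precoverage.mem_toGrothendieck_iff_of_isStableUnderComposition.1 hR
  obtain ⟨ι, Z, p, rfl⟩ := P.exists_eq_ofArrows
  rw [Scheme.ofArrows_mem_precoverage_iff] at hP
  have key : ∀ x : T, ∃ (S' : Scheme.{u}) (g : S' ⟶ T), Etale g ∧ x ∈ Set.range g.base ∧ R g := fun x => by
    obtain ⟨j, hx⟩ := hP.1 x
    haveI : Smooth (p j) := hP.2 j
    obtain ⟨S', g, s', hg, hs', h, hh⟩ := Groth.Agent.S0412.result (p j) x hx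
    exact ⟨S', g, hg, ⟨s', hs'⟩, hh ▸ R.downward_closed (hPR _ _ (Presieve.ofArrows.mk j)) h⟩
  choose S' g hg hx hR' using key
  change R ∈ (Scheme.precoverage @Etale).toGrothendieck T
  refine Precoverage.mem_toGrothendieck_iff_of_isStableUnderComposition.2 ⟨Presieve.ofArrows S' g, ?_, ?_⟩
  · exact (Scheme.ofArrows_mem_precoverage_iff @Etale).2 ⟨fun x => ⟨x, hx x⟩, hg⟩
  · rintro _ _ ⟨x⟩
    exact hR' x

theorem smooth_J_eq (S : Scheme.{u}) :
    QuotSh.J (Scheme.precoverage @Smooth) S = QuotSh.J Scheme.etalePrecoverage S := by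
  simp only [QuotSh.J, smooth_toGrothendieck_eq]

variable {X Y : Scheme.{u}} (f : X ⟶ Y) [IsClosedImmersion f]

theorem isAlmostCocontinuous_pullback_etale :
    BigSite.IsAlmostCocontinuous (Over.pullback f) (QuotSh.J Scheme.etalePrecoverage Y)
      (QuotSh.J Scheme.etalePrecoverage X) := by
  intro U R hR
  let R' : Sieve U :=
    { arrows := fun V g =>
        (⊥ : Sieve ((Over.pullback f).obj V)) ∈ (QuotSh.J Scheme.etalePrecoverage X) _ ∨ R ((Over.pullback f).map g)
      downward_closed := by
        rintro V W g (hg | hg) e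
        · refine Or.inl ((QuotSh.J Scheme.etalePrecoverage X).superset_covering ?_
            ((QuotSh.J Scheme.etalePrecoverage X).pullback_stable ((Over.pullback f).map e) hg))
          exact fun Z k hk => hk
        · refine Or.inr ?_
          rw [Functor.map_comp]
          exact R.downward_closed hg _ }
  refine ⟨R', mem_of_etale R' fun y => ?_, fun V g hg => hg⟩
  let i : pullback U.hom f ⟶ U.left := pullback.fst U.hom f
  haveI : IsClosedImmersion i := MorphismProperty.pullback_fst _ _ ‹IsClosedImmersion f›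
  by_cases hy : y ∈ Set.range i.base
  · obtain ⟨x, rfl⟩ := hy
    change Sieve.overEquiv _ R ∈ (Scheme.precoverage @Etale).toGrothendieck _ at hR
    obtain ⟨P, hP, hPR⟩ := Precoverage.mem_toGrothendieck_iff_of_isStableUnderComposition.1 hR
    obtain ⟨ι, W, w, rfl⟩ := P.exists_eq_ofArrows
    rw [Scheme.ofArrows_mem_precoverage_iff] at hP
    obtain ⟨j, z, hz⟩ := hP.1 x
    haveI : Etale (w j) := hP.2 j
    obtain ⟨V, v, hv, h, hh, hs⟩ := propC_of_integral i i.isClosedEmbedding.injective (W j) (w j)
    obtain ⟨q, hq⟩ := hs.surj z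
    refine ⟨V, v, hv, ⟨(pullback.snd i v).base q, ?_⟩, Or.inr ?_⟩
    · rw [← Scheme.Hom.comp_apply, ← pullback.condition, Scheme.Hom.comp_apply, ← hh, Scheme.Hom.comp_apply, hq]
      exact congrArg i.base hz
    let P' := (Over.pullback f).map (Over.homMk v : Over.mk (v ≫ U.hom) ⟶ U)
    let k : pullback (v ≫ U.hom) f ⟶ pullback i v := pullback.lift P'.left (pullback.fst (v ≫ U.hom) f)
      (pullback.lift_fst _ _ _)
    have hk : (k ≫ h) ≫ w j = P'.left := by
      rw [Category.assoc, hh]
      exact pullback.lift_fst _ _ _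
    have hRw : R (Over.homMk (w j) : Over.mk (w j ≫ pullback.snd U.hom f) ⟶ (Over.pullback f).obj U) :=
      (Sieve.overEquiv_iff R (w j)).1 (hPR _ _ (Presieve.ofArrows.mk j))
    let k' : (Over.pullback f).obj (Over.mk (v ≫ U.hom)) ⟶ Over.mk (w j ≫ pullback.snd U.hom f) :=
      Over.homMk (k ≫ h) (by
        exact (Category.assoc _ _ _).symm.trans ((congrArg (· ≫ pullback.snd U.hom f) hk).trans (Over.w P')))
    have e : k' ≫ (Over.homMk (w j) : Over.mk (w j ≫ pullback.snd U.hom f) ⟶ (Over.pullback f).obj U) = P' :=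
      Over.OverMorphism.ext hk
    rw [show (Over.pullback f).map (Over.homMk v : Over.mk (v ≫ U.hom) ⟶ U) = _ from e.symm]
    exact R.downward_closed hRw _
  · let O : U.left.Opens := ⟨(Set.range i.base)ᶜ, i.isClosedMap.isClosed_range.isOpen_compl⟩
    refine ⟨O, O.ι, inferInstance, ⟨⟨y, hy⟩, rfl⟩, Or.inl (mem_of_etale _ fun z => ?_)⟩
    let P' := (Over.pullback f).map (Over.homMk O.ι : Over.mk (O.ι ≫ U.hom) ⟶ U)
    have h1 : P'.left ≫ i = pullback.fst (O.ι ≫ U.hom) f ≫ O.ι := pullback.lift_fst _ _ _
    have h2 := congrArg (fun q : _ ⟶ U.left => q.base z) h1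
    exact absurd ⟨P'.left.base z, h2⟩ ((pullback.fst (O.ι ≫ U.hom) f).base z).2

variable (K : Precoverage Scheme.{u})
  (hK : K = Scheme.etalePrecoverage ∨ K = Scheme.precoverage @Smooth)

include hK in
theorem isAlmostCocontinuous_pullback :
    BigSite.IsAlmostCocontinuous (Over.pullback f) (QuotSh.J K Y) (QuotSh.J K X) := by
  rcases hK with rfl | rfl
  · exact isAlmostCocontinuous_pullback_etale f
  · rw [smooth_J_eq, smooth_J_eq]
    exact isAlmostCocontinuous_pullback_etale f

include hK in
theorem preservesEpimorphisms_pushBig :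
    (BigSite.pushBig K f AddCommGrpCat.{u + 1}).PreservesEpimorphisms := by
  refine ⟨fun {F G} φ _ => ?_⟩
  haveI : Sheaf.IsLocallySurjective φ := (Sheaf.isLocallySurjective_iff_epi' AddCommGrpCat.{u + 1} φ).2 ‹_›
  rw [← Sheaf.isLocallySurjective_iff_epi']
  refine ⟨fun {U} s => ?_⟩
  obtain ⟨R', hR', h⟩ := isAlmostCocontinuous_pullback f K hK U _
    (Presheaf.imageSieve_mem (QuotSh.J K X) φ.hom (U := op ((Over.pullback f).obj U)) s)
  refine (QuotSh.J K Y).superset_covering (fun V g hg => ?_) hR'
  rcases h g hg with he | hr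
  · haveI : Subsingleton (G.obj.obj (op ((Over.pullback f).obj V))) :=
      AddCommGrpCat.subsingleton_of_isZero (Limits.IsTerminal.isZero (Sheaf.isTerminalOfBotCover G _ he))
    exact ⟨0, Subsingleton.elim (α := G.obj.obj (op ((Over.pullback f).obj V))) _ _⟩
  · exact hr

include hK in
theorem preservesFiniteColimits_pushBig :
    PreservesFiniteColimits (BigSite.pushBig K f AddCommGrpCat.{u + 1}) := by
  haveI := preservesEpimorphisms_pushBig f K hK
  haveI : (BigSite.pushBig K f AddCommGrpCat.{u + 1}).IsRightAdjoint :=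
    (BigSite.bigAdj K f AddCommGrpCat.{u + 1}).isRightAdjoint
  haveI : (BigSite.pushBig K f AddCommGrpCat.{u + 1}).PreservesHomology :=
    Functor.preservesHomology_of_preservesEpis_and_kernels _
  exact Functor.preservesFiniteColimits_of_preservesHomology _

end GrothLib.BigEt
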