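import Groth.Agent.Lib.BigEt.Exact
import Groth.Agent.Lib.BigEt.AbSections
import Groth.Agent.Lib.LocZ.Excision
import Groth.Agent.Lib.SheafCoh.Compare
import Groth.Agent.Lib.EtSite.PushExact
import Mathlib.CategoryTheory.Sites.ConstantSheaf
import Mathlib.CategoryTheory.Adjunction.Additive

/-!
# Comparisons between big and small etale sites
-/

set_option autoImplicit false
universe v₁ v₂ v₃ v₄ u₁ u₂ u₃ u₄ v' u' u

open CategoryTheory CategoryTheory.Limits AlgebraicGeometry Opposite
open GrothLib.EtSite GrothLib.EtSec

set_option backward.isDefEq.respectTransparency.types false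

noncomputable section

namespace GrothLib.BigEt

section general

variable {C : Type u₁} [Category.{v₁} C] {D : Type u₂} [Category.{v₂} D] {D' : Type u₃} [Category.{v₃} D']
  {E : Type u₄} [Category.{v₄} E] (J : GrothendieckTopology C) (K : GrothendieckTopology D)
  (K' : GrothendieckTopology D') (L : GrothendieckTopology E) (A : Type u') [Category.{v'} A]
  (p : C ⥤ D) (q : D ⥤ E) (p' : C ⥤ D') (q' : D' ⥤ E)
  [p.IsContinuous J K] [q.IsContinuous K L] [p'.IsContinuous J K'] [q'.IsContinuous K' L]

/-- Direct images along two isomorphic composites agree. -/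
def pushPushIso (e : p ⋙ q ≅ p' ⋙ q') :
    q.sheafPushforwardContinuous A K L ⋙ p.sheafPushforwardContinuous A J K ≅
      q'.sheafPushforwardContinuous A K' L ⋙ p'.sheafPushforwardContinuous A J K' :=
  NatIso.ofComponents
    (fun F => (fullyFaithfulSheafToPresheaf _ _).preimageIso
      (NatIso.ofComponents (fun U => F.obj.mapIso (e.symm.app U.unop).op) (fun {U V} g => by
        show F.obj.map (q.map (p.map g.unop)).op ≫ F.obj.map (e.inv.app V.unop).op =
          F.obj.map (e.inv.app U.unop).op ≫ F.obj.map (q'.map (p'.map g.unop)).op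
        rw [← F.obj.map_comp, ← F.obj.map_comp, ← op_comp, ← op_comp]
        exact congrArg (fun k => F.obj.map (Quiver.Hom.op k)) (e.inv.naturality g.unop).symm)))
    (fun {F G} φ => by
      apply (fullyFaithfulSheafToPresheaf J A).map_injective
      ext U
      exact (φ.hom.naturality (e.inv.app U.unop).op).symm)

end general

section derived

variable {A : Type u₁} [Category.{v₁} A] [Abelian A] [HasInjectiveResolutions A]
  {B : Type u₂} [Category.{v₂} B] [Abelian B] [HasInjectiveResolutions B]
  {A' : Type u₃} [Category.{v₃} A'] [Abelian A'] [HasInjectiveResolutions A']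
  {B' : Type u₄} [Category.{v₄} B'] [Abelian B']

/-- An exact functor after a derived functor is a derived functor after an exact functor preserving injectives. -/
theorem nonempty_rightDerived_square (Φ : A ⥤ B) [Φ.Additive] (R : B ⥤ B') [R.Additive]
    [PreservesFiniteLimits R] [PreservesFiniteColimits R] (R' : A ⥤ A') [R'.Additive]
    [PreservesFiniteLimits R'] [PreservesFiniteColimits R'] (hR' : ∀ I : A, Injective I → Injective (R'.obj I))
    (Φ' : A' ⥤ B') [Φ'.Additive] (e : R' ⋙ Φ' ≅ Φ ⋙ R) (F : A) (n : ℕ) :
    Nonempty (R.obj ((Φ.rightDerived n).obj F) ≅ (Φ'.rightDerived n).obj (R'.obj F)) :=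
  have := Functor.preservesHomologyOfExact R
  ⟨(SheafCoh.rightDerivedPostExactIso (R' ⋙ Φ') Φ R e F n).symm ≪≫
    ((LocZ.rightDerivedPreExactIso R' hR' Φ' n).app F).symm⟩

end derived

variable {S T : Scheme.{u}}

section square

variable {S' T' : Scheme.{u}} (f : T ⟶ S) (g : S' ⟶ S) (g' : T' ⟶ T) (f' : T' ⟶ S') (c : IsPullback g' f' f g)

include c in
theorem isPullback_paste (V : Over S') :
    IsPullback (pullback.fst V.hom f') (pullback.snd V.hom f' ≫ g') (V.hom ≫ g) f :=
  (IsPullback.of_hasPullback V.hom f').paste_vert c.flip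

/-- Composition after base change is base change after composition. -/
def pullbackMapIso : Over.pullback f' ⋙ Over.map g' ≅ Over.map g ⋙ Over.pullback f :=
  NatIso.ofComponents
    (fun V => Over.isoMk (isPullback_paste f g g' f' c V).isoPullback
      ((isPullback_paste f g g' f' c V).isoPullback_hom_snd))
    (fun {V W} k => by
      apply Over.OverMorphism.ext
      show pullback.lift (pullback.fst V.hom f' ≫ k.left) (pullback.snd V.hom f') _ ≫
          (isPullback_paste f g g' f' c W).isoPullback.hom =
        (isPullback_paste f g g' f' c V).isoPullback.hom ≫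
          pullback.lift (pullback.fst (V.hom ≫ g) f ≫ k.left) (pullback.snd (V.hom ≫ g) f) _
      apply pullback.hom_ext
      · rw [Category.assoc, Category.assoc, IsPullback.isoPullback_hom_fst, pullback.lift_fst, pullback.lift_fst,
          ← Category.assoc, IsPullback.isoPullback_hom_fst]
      · rw [Category.assoc, Category.assoc, IsPullback.isoPullback_hom_snd, pullback.lift_snd,
          pullback.lift_snd_assoc, IsPullback.isoPullback_hom_snd])

/-- The same on small etale sites. -/
def bcMapIso : EtCoh.bc f' ⋙ EtFppf.a T' ⋙ Over.map g' ≅ EtFppf.a S' ⋙ Over.map g ⋙ Over.pullback f :=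
  (Functor.associator _ _ _).symm ≪≫
    Functor.isoWhiskerRight
      (show EtCoh.bc f' ⋙ EtFppf.a T' ≅ EtFppf.a S' ⋙ Over.pullback f' from
        MorphismProperty.Over.pullbackCompForgetIso (P := EtCoh.etaleMP) (Q := ⊤) f') (Over.map g') ≪≫
    Functor.associator _ _ _ ≪≫ Functor.isoWhiskerLeft (EtFppf.a S') (pullbackMapIso f g g' f' c)

include c

/-- Base change for big direct images. -/
def pullBigPushBigIso (K : Precoverage Scheme.{u}) (A : Type u') [Category.{v'} A] :
    BigSite.pushBig K f A ⋙ BigSite.pullBig K g A ≅ BigSite.pullBig K g' A ⋙ BigSite.pushBig K f' A :=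
  (pushPushIso (QuotSh.J K S') (QuotSh.J K T') (QuotSh.J K S) (QuotSh.J K T) A (Over.pullback f') (Over.map g')
    (Over.map g) (Over.pullback f) (pullbackMapIso f g g' f' c)).symm

/-- Base change for big direct images, restricted to small sites. -/
def resEtAlongPushBigIso [EtCoh.BCCont f'] :
    BigSite.pushBig Scheme.etalePrecoverage f AddCommGrpCat.{u + 1} ⋙
        BigSite.resEtAlong Scheme.etalePrecoverage g ≅
      BigSite.resEtAlong Scheme.etalePrecoverage g' ⋙ EtCoh.push f' :=
  haveI := Functor.isContinuous_comp (EtFppf.a T') (Over.map g') T'.smallEtaleTopology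
    (QuotSh.J Scheme.etalePrecoverage T') (QuotSh.J Scheme.etalePrecoverage T)
  haveI := Functor.isContinuous_comp (EtFppf.a S') (Over.map g) S'.smallEtaleTopology
    (QuotSh.J Scheme.etalePrecoverage S') (QuotSh.J Scheme.etalePrecoverage S)
  (pushPushIso S'.smallEtaleTopology T'.smallEtaleTopology (QuotSh.J Scheme.etalePrecoverage S)
    (QuotSh.J Scheme.etalePrecoverage T) AddCommGrpCat.{u + 1} (EtCoh.bc f') (EtFppf.a T' ⋙ Over.map g')
    (EtFppf.a S' ⋙ Over.map g) (Over.pullback f)
    (bcMapIso f g g' f' c ≪≫ (Functor.associator _ _ _).symm)).symm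

end square

section unit

variable (f : T ⟶ S)

/-- For a monomorphism the counit on big sites is an isomorphism. -/
theorem isIso_bigAdj_counit [Mono f] (K : Precoverage Scheme.{u}) (A : Type u') [Category.{v'} A]
    (F : Sheaf (QuotSh.J K T) A) : IsIso ((BigSite.bigAdj K f A).counit.app F) := by
  haveI : ∀ U : Over T, IsIso ((Over.mapPullbackAdj f).unit.app U) := fun U => by
    refine ⟨Over.homMk (pullback.fst (U.hom ≫ f) f) ?_, ?_, ?_⟩
    · refine (cancel_mono f).1 ?_
      rw [Category.assoc]
      exact pullback.condition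
    · apply Over.OverMorphism.ext
      show pullback.lift (𝟙 U.left) U.hom _ ≫ pullback.fst (U.hom ≫ f) f = 𝟙 _
      exact pullback.lift_fst _ _ _
    · apply Over.OverMorphism.ext
      show pullback.fst (U.hom ≫ f) f ≫ pullback.lift (𝟙 U.left) U.hom _ = 𝟙 _
      apply pullback.hom_ext
      · rw [Category.assoc, pullback.lift_fst, Category.comp_id]; exact (Category.id_comp _).symm
      · rw [Category.assoc, pullback.lift_snd]
        refine (cancel_mono f).1 ?_
        rw [Category.assoc, pullback.condition]
        exact (congrArg (· ≫ f) (Category.id_comp (pullback.snd (U.hom ≫ f) f))).symm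
  haveI : IsIso ((sheafToPresheaf _ _).map ((BigSite.bigAdj K f A).counit.app F)) := by
    haveI : ∀ V, IsIso (((sheafToPresheaf _ _).map ((BigSite.bigAdj K f A).counit.app F)).app V) := fun V => by
      haveI : IsIso (F.obj.map ((Over.mapPullbackAdj f).unit.app V.unop).op) := inferInstance
      simp
      exact this
    exact NatIso.isIso_of_isIso_app _
  exact isIso_of_fully_faithful (sheafToPresheaf _ _) _

end unit

section alongPi

variable (f : T ⟶ S) (F : EtCoh.Ab S)

/-- Sections of an inverse image as relative sections, naturally. -/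
def pullToSecs : ((EtCoh.pull f).obj F).obj ⟶ (EtFppf.a T).op ⋙ (Over.map f).op ⋙ secsAb F where
  app U := AddCommGrpCat.ofHom (AddMonoidHom.mk' (fun σ => toSecsAb f F (U := U.unop) σ) (toSecsAb_add (F := F) f))
  naturality U V r := by
    ext σ
    exact toSecsAb_map f F r.unop σ

/-- The inverse image on a small site is the restriction of the inverse image to the big site. -/
def resEtAlongPiIso :
    (BigSite.resEtAlong Scheme.etalePrecoverage f).obj ((BigSite.piEtPull Scheme.etalePrecoverage S).obj F) ≅
      (EtCoh.pull f).obj F :=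
  haveI : ∀ U, IsIso ((pullToSecs f F).app U) := fun U =>
    (ConcreteCategory.isIso_iff_bijective _).2 (toSecsAb_bijective f F U.unop)
  haveI : IsIso (pullToSecs f F) := NatIso.isIso_of_isIso_app _
  (BigSite.resEtAlong Scheme.etalePrecoverage f).mapIso
      ((secsAbIso (QuotSh.J Scheme.etalePrecoverage S) (etale_le_fppf.trans fppf_le_fpqc) le_rfl).app F) ≪≫
    (fullyFaithfulSheafToPresheaf _ _).preimageIso (asIso (pullToSecs f F)).symm

end alongPi

section cohomology

/-- The constant sheaf on the big site. -/
def piEtPullConstIso (M : AddCommGrpCat.{u + 1}) :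
    (BigSite.piEtPull Scheme.etalePrecoverage S).obj
        ((constantSheaf S.smallEtaleTopology AddCommGrpCat.{u + 1}).obj M) ≅
      (constantSheaf (QuotSh.J Scheme.etalePrecoverage S) AddCommGrpCat.{u + 1}).obj M :=
  let hT : IsTerminal (EtCoh.top S) := MorphismProperty.Over.mkIdTerminal EtCoh.etaleMP S
  (((constantSheafAdj S.smallEtaleTopology AddCommGrpCat.{u + 1} hT).comp
      (BigSite.piEtAdj Scheme.etalePrecoverage S)).leftAdjointUniq
    ((constantSheafAdj (QuotSh.J Scheme.etalePrecoverage S) AddCommGrpCat.{u + 1}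
      (Over.mkIdTerminal : IsTerminal ((EtFppf.a S).obj (EtCoh.top S)))).ofNatIsoRight (Iso.refl _))).app M

/-- Cohomology of the big and the small etale site. -/
theorem nonempty_H_resEt (F : BigSite.Ab Scheme.etalePrecoverage S) (n : ℕ) :
    Nonempty (BigSite.H Scheme.etalePrecoverage S F n ≃+
      EtCoh.H S ((BigSite.resEt Scheme.etalePrecoverage S).obj F) n) := by
  let R := BigSite.resEt Scheme.etalePrecoverage S
  let adj := BigSite.piEtAdj Scheme.etalePrecoverage S
  haveI : (BigSite.piEtPull Scheme.etalePrecoverage S).Additive := adj.left_adjoint_additive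
  let e := piEtPullConstIso (S := S) (AddCommGrpCat.of (ULift.{u + 1} ℤ))
  let φ : ∀ G : BigSite.Ab Scheme.etalePrecoverage S,
      ((constantSheaf (QuotSh.J Scheme.etalePrecoverage S) AddCommGrpCat.{u + 1}).obj
          (AddCommGrpCat.of (ULift.{u + 1} ℤ)) ⟶ G) ≃+
      ((constantSheaf S.smallEtaleTopology AddCommGrpCat.{u + 1}).obj (AddCommGrpCat.of (ULift.{u + 1} ℤ)) ⟶
        R.obj G) := fun G =>
    (AddEquiv.mk' e.homFromEquiv.symm fun a b => Preadditive.comp_add _ _ _ _ a b).trans (adj.homAddEquiv _ G)
  refine SheafCoh.nonempty_ext_addEquiv R _ _ φ (fun g a => ?_) (fun X hX => hX.map_of_exact R) (fun I hI m => ?_) n F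
  · show adj.homEquiv _ _ (e.hom ≫ a ≫ g) = adj.homEquiv _ _ (e.hom ≫ a) ≫ R.map g
    rw [← Category.assoc, adj.homEquiv_naturality_right]
  · haveI := hI
    haveI := injective_resEt I
    exact Abelian.Ext.subsingleton_of_injective _ _ _

end cohomology

end GrothLib.BigEt
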