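import Groth.Agent.Lib.BigEt.AbPullback
import Groth.Agent.Lib.SheafCoh.DerivedComp
import Mathlib.CategoryTheory.Abelian.Exact
import Mathlib.CategoryTheory.Sites.Pullback
import Mathlib.Algebra.Category.Grp.AB
import Mathlib.CategoryTheory.Preadditive.Injective.Basic
import Mathlib.Algebra.Homology.ShortComplex.ExactFunctor

/-!
# Exactness of the functors between big and small sites
-/

set_option autoImplicit false
universe u

open CategoryTheory CategoryTheory.Limits AlgebraicGeometry Opposite
open GrothLib.EtSite GrothLib.EtSec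

set_option backward.isDefEq.respectTransparency.types false

noncomputable section

namespace GrothLib.BigEt

variable {S T : Scheme.{u}}

section lanEval

universe v₁ v₂ v₃ u₁ u₂ u₃

variable {C : Type u₁} [Category.{v₁} C] {D : Type u₂} [Category.{v₂} D] {E : Type u₃} [Category.{v₃} E]

set_option backward.defeqAttrib.useBackward true in
set_option backward.isDefEq.respectTransparency false in
/-- The evaluation of a left Kan extension functor is the colimit over the costructured arrows. -/
def lanEvalIso (F : C ⥤ D) (X : D) [∀ X : D, HasColimitsOfShape (CostructuredArrow F X) E] :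
    F.lan ⋙ (evaluation D E).obj X ≅
      (Functor.whiskeringLeft _ _ E).obj (CostructuredArrow.proj F X) ⋙ colim :=
  NatIso.ofComponents (fun G =>
    IsColimit.coconePointUniqueUpToIso
    (Functor.isPointwiseLeftKanExtensionLeftKanExtensionUnit F G X)
    (colimit.isColimit _)) (fun {G₁ G₂} φ => by
      apply (Functor.isPointwiseLeftKanExtensionLeftKanExtensionUnit F G₁ X).hom_ext
      intro T
      have h₁ := fun (G : C ⥤ E) => IsColimit.comp_coconePointUniqueUpToIso_hom
        (Functor.isPointwiseLeftKanExtensionLeftKanExtensionUnit F G X) (colimit.isColimit _) T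
      have h₂ := congr_app (F.lanUnit.naturality φ) T.left
      dsimp at h₁ h₂ ⊢
      simp only [Category.assoc] at h₁ ⊢
      simp only [Functor.lan, Functor.lanUnit] at h₂ ⊢
      rw [reassoc_of% h₁, NatTrans.naturality_assoc, ← reassoc_of% h₂, h₁,
        ι_colimMap, Functor.whiskerLeft_app]
      rfl)

end lanEval

section pullbackMono

variable (J : GrothendieckTopology (Over S)) (hJ : J ≤ QuotSh.J Scheme.fpqcPrecoverage S)
  (hJ' : QuotSh.J Scheme.etalePrecoverage S ≤ J)
  [(EtFppf.a S).IsContinuous S.smallEtaleTopology J]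

theorem stalk_map_injective {F G : EtCoh.Ab S} (α : F ⟶ G) [Mono α] {Ω : Type u} [Field Ω] [IsSepClosed Ω]
    (η : Spec (CommRingCat.of Ω) ⟶ S) : Function.Injective ((EtCoh.stalk η).map α) := by
  haveI : (EtCoh.stalk η).PreservesMonomorphisms := preservesMonomorphisms_of_preservesLimitsOfShape _
  exact (AddCommGrpCat.mono_iff_injective _).1 inferInstance

theorem secsMap_injective {F G : EtCoh.Ab S} (α : F ⟶ G) [Mono α] {Z : Scheme.{u}} (a : Z ⟶ S) :
    Function.Injective (secsMap (forgetShMap α) (a := a)) := fun σ τ h =>
  ext_valAb fun Ω _ _ p η hp => stalk_map_injective α η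
    ((stalkForget_naturality (F := F) Ω α (σ.val Ω p η hp)).symm.trans
      ((congrArg (fun ρ : Secs a (forgetSh G) => valAb ρ Ω p η hp) h).trans
        (stalkForget_naturality (F := F) Ω α (τ.val Ω p η hp))))

include hJ hJ' in
theorem preservesMonomorphisms_sheafPullback :
    ((EtFppf.a S).sheafPullback AddCommGrpCat.{u + 1} S.smallEtaleTopology J).PreservesMonomorphisms := by
  haveI : (secsAbSheafFunctor J hJ).PreservesMonomorphisms := ⟨fun {F G} α _ => by
    haveI : ∀ V, Mono (((secsAbFunctor S).map α).app V) := fun V =>
      (AddCommGrpCat.mono_iff_injective _).2 (secsMap_injective α V.unop.hom)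
    haveI : Mono ((secsAbFunctor S).map α) := NatTrans.mono_of_mono_app _
    haveI : Mono ((sheafToPresheaf J AddCommGrpCat.{u + 1}).map ((secsAbSheafFunctor J hJ).map α)) :=
      ‹Mono ((secsAbFunctor S).map α)›
    exact (sheafToPresheaf J AddCommGrpCat.{u + 1}).mono_of_mono_map inferInstance⟩
  exact Functor.preservesMonomorphisms.of_iso (secsAbIso J hJ hJ').symm

end pullbackMono

instance preservesColimits_piEtPull : PreservesFiniteColimits (BigSite.piEtPull Scheme.etalePrecoverage S) :=
  haveI := (BigSite.piEtAdj Scheme.etalePrecoverage S).leftAdjoint_preservesColimits (G := _)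
  inferInstance

instance preservesMonomorphisms_piEtPull :
    (BigSite.piEtPull Scheme.etalePrecoverage S).PreservesMonomorphisms :=
  preservesMonomorphisms_sheafPullback (QuotSh.J Scheme.etalePrecoverage S)
    (etale_le_fppf.trans fppf_le_fpqc) le_rfl

instance preservesFiniteLimits_piEtPull : PreservesFiniteLimits (BigSite.piEtPull Scheme.etalePrecoverage S) := by
  haveI : (BigSite.piEtPull Scheme.etalePrecoverage S).Additive :=
    (BigSite.piEtAdj Scheme.etalePrecoverage S).left_adjoint_additive
  haveI := (BigSite.piEtPull Scheme.etalePrecoverage S).preservesHomology_of_preservesMonos_and_cokernels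
  exact Functor.preservesFiniteLimits_of_preservesHomology _

instance preservesFiniteLimits_resEt : PreservesFiniteLimits (BigSite.resEt Scheme.etalePrecoverage S) :=
  haveI := (BigSite.piEtAdj Scheme.etalePrecoverage S).rightAdjoint_preservesLimits (G := _)
  inferInstance

instance preservesFiniteColimits_resEt : PreservesFiniteColimits (BigSite.resEt Scheme.etalePrecoverage S) :=
  haveI := (BigSite.iEtAdj Scheme.etalePrecoverage S).leftAdjoint_preservesColimits (G := _)
  inferInstance

theorem injective_resEt (I : BigSite.Ab Scheme.etalePrecoverage S) [hI : Injective I] :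
    Injective ((BigSite.resEt Scheme.etalePrecoverage S).obj I) :=
  Injective.injective_of_adjoint (BigSite.piEtAdj Scheme.etalePrecoverage S) I

section shriek

variable (f : T ⟶ S)

/-- The maps to `T` over `S` inside the costructured arrows of `(Over.map f).op`. -/
def mapArrows (W : (Over S)ᵒᵖ) :
    Discrete {φ : W.unop.left ⟶ T // φ ≫ f = W.unop.hom} ⥤ CostructuredArrow (Over.map f).op W :=
  Discrete.functor fun φ => CostructuredArrow.mk (Y := op (Over.mk φ.1))
    (Over.homMk (𝟙 W.unop.left) ((Category.id_comp _).trans φ.2) : W.unop ⟶ (Over.map f).obj (Over.mk φ.1)).op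

theorem final_mapArrows (W : (Over S)ᵒᵖ) : (mapArrows f W).Final := by
  refine ⟨fun d => ?_⟩
  let g : W.unop ⟶ (Over.map f).obj d.left.unop := d.hom.unop
  let g' : W.unop.left ⟶ d.left.unop.left := g.left
  let φ₀ : W.unop.left ⟶ T := g' ≫ d.left.unop.hom
  have hφ₀ : φ₀ ≫ f = W.unop.hom := (Category.assoc _ _ _).trans (Over.w g)
  let h₀ : d ⟶ (mapArrows f W).obj ⟨⟨φ₀, hφ₀⟩⟩ :=
    CostructuredArrow.homMk (Over.homMk g' : Over.mk φ₀ ⟶ d.left.unop).op (by
      apply Quiver.Hom.unop_inj
      apply Over.OverMorphism.ext
      exact Category.id_comp g')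
  have hne : Nonempty (StructuredArrow d (mapArrows f W)) := ⟨StructuredArrow.mk h₀⟩
  refine zigzag_isConnected fun a b => ?_
  suffices a = b by subst this; exact Relation.ReflTransGen.refl
  have key : ∀ a : StructuredArrow d (mapArrows f W), a = StructuredArrow.mk h₀ := by
    intro a
    obtain ⟨⟨⟩, ⟨φ, hφ⟩, k⟩ := a
    have hw : k.left.unop.left = g' := by
      have e := congrArg (fun x => x.unop.left) (CostructuredArrow.w k)
      exact (Category.id_comp _).symm.trans e
    have hf : φ = φ₀ := by
      have := Over.w k.left.unop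
      rw [hw] at this
      exact this.symm
    subst hf
    have : k = h₀ := CostructuredArrow.hom_ext _ _ (Quiver.Hom.unop_inj (Over.OverMorphism.ext hw))
    subst this
    rfl
  rw [key a, key b]

/-- Left Kan extension along `Over.map f` is exact on abelian presheaves. -/
theorem preservesFiniteLimits_lan_map :
    PreservesFiniteLimits ((Over.map f).op.lan :
      ((Over T)ᵒᵖ ⥤ AddCommGrpCat.{u + 1}) ⥤ (Over S)ᵒᵖ ⥤ AddCommGrpCat.{u + 1}) := by
  refine ⟨fun K _ _ => ?_⟩
  refine preservesLimitsOfShape_of_evaluation _ K fun W => ?_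
  have := final_mapArrows f W
  have : HasColimitsOfShape (Discrete {φ : W.unop.left ⟶ T // φ ≫ f = W.unop.hom}) AddCommGrpCat.{u + 1} :=
    inferInstance
  let e : (Over.map f).op.lan ⋙ (evaluation (Over S)ᵒᵖ AddCommGrpCat.{u + 1}).obj W ≅
      (Functor.whiskeringLeft _ _ AddCommGrpCat.{u + 1}).obj
          (mapArrows f W ⋙ CostructuredArrow.proj (Over.map f).op W) ⋙ colim :=
    lanEvalIso (Over.map f).op W ≪≫
      Functor.isoWhiskerLeft ((Functor.whiskeringLeft _ _ AddCommGrpCat.{u + 1}).obj
        (CostructuredArrow.proj (Over.map f).op W))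
        (Functor.Final.colimIso (E := AddCommGrpCat.{u + 1}) (mapArrows f W)).symm
  haveI : AB4OfSize.{u + 1} AddCommGrpCat.{u + 1} := inferInstance
  haveI : HasExactColimitsOfShape (Discrete {φ : W.unop.left ⟶ T // φ ≫ f = W.unop.hom}) AddCommGrpCat.{u + 1} :=
    HasExactColimitsOfShape.of_domain_equivalence _
      (Discrete.equivalence (Equiv.ulift.{u + 1} (α := {φ : W.unop.left ⟶ T // φ ≫ f = W.unop.hom})))
  haveI : PreservesLimitsOfShape K (colim :
      (Discrete {φ : W.unop.left ⟶ T // φ ≫ f = W.unop.hom} ⥤ AddCommGrpCat.{u + 1}) ⥤ _) := inferInstance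
  exact preservesLimitsOfShape_of_natIso e.symm

variable (K : Precoverage Scheme.{u})

theorem preservesFiniteLimits_shriek : PreservesFiniteLimits (BigSite.shriekAb K f) :=
  have := preservesFiniteLimits_lan_map f
  have : PreservesFiniteLimits (Functor.sheafPullbackConstruction.sheafPullback (Over.map f)
      AddCommGrpCat.{u + 1} (QuotSh.J K T) (QuotSh.J K S)) :=
    have : PreservesFiniteLimits ((Over.map f).op.lan ⋙
        presheafToSheaf (QuotSh.J K S) AddCommGrpCat.{u + 1}) :=
      comp_preservesFiniteLimits _ _
    comp_preservesFiniteLimits (sheafToPresheaf _ _) _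
  preservesFiniteLimits_of_natIso
    (Functor.sheafPullbackConstruction.sheafPullbackIso (Over.map f) AddCommGrpCat.{u + 1}
      (QuotSh.J K T) (QuotSh.J K S)).symm

instance preservesFiniteLimits_pullBig : PreservesFiniteLimits (BigSite.pullBig K f AddCommGrpCat.{u + 1}) :=
  haveI := (BigSite.shriekAbAdj K f).rightAdjoint_preservesLimits (G := _)
  inferInstance

instance preservesFiniteColimits_pullBig : PreservesFiniteColimits (BigSite.pullBig K f AddCommGrpCat.{u + 1}) :=
  haveI := (BigSite.bigAdj K f AddCommGrpCat.{u + 1}).leftAdjoint_preservesColimits (G := _)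
  inferInstance

theorem injective_pullBig (I : BigSite.Ab K S) [hI : Injective I] :
    Injective ((BigSite.pullBig K f AddCommGrpCat.{u + 1}).obj I) :=
  haveI := preservesFiniteLimits_shriek f K
  haveI : (BigSite.shriekAb K f).PreservesMonomorphisms := preservesMonomorphisms_of_preservesLimitsOfShape _
  Injective.injective_of_adjoint (BigSite.shriekAbAdj K f) I

instance preservesFiniteLimits_resEtAlong :
    PreservesFiniteLimits (BigSite.resEtAlong Scheme.etalePrecoverage f) :=
  comp_preservesFiniteLimits _ _

instance preservesFiniteColimits_resEtAlong :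
    PreservesFiniteColimits (BigSite.resEtAlong Scheme.etalePrecoverage f) :=
  comp_preservesFiniteColimits _ _

instance additive_resEtAlong : (BigSite.resEtAlong Scheme.etalePrecoverage f).Additive :=
  inferInstanceAs (BigSite.pullBig Scheme.etalePrecoverage f AddCommGrpCat.{u + 1} ⋙
    BigSite.resEt Scheme.etalePrecoverage T).Additive

theorem injective_resEtAlong (I : BigSite.Ab Scheme.etalePrecoverage S) [Injective I] :
    Injective ((BigSite.resEtAlong Scheme.etalePrecoverage f).obj I) :=
  haveI := injective_pullBig f Scheme.etalePrecoverage I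
  injective_resEt ((BigSite.pullBig Scheme.etalePrecoverage f AddCommGrpCat.{u + 1}).obj I)

end shriek

end GrothLib.BigEt
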