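import Groth.Agent.Lib.BigEt.Compare
import Groth.Agent.Lib.BigEt.AbProper

/-!
# Higher direct images of finite morphisms on big etale sites
-/

set_option autoImplicit false
universe u

open CategoryTheory CategoryTheory.Limits AlgebraicGeometry Opposite
open GrothLib.EtSite GrothLib.EtSec

set_option backward.isDefEq.respectTransparency.types false

noncomputable section

namespace GrothLib.BigEt

variable {S T : Scheme.{u}}

/-- A sheaf on the big site with zero restrictions to all small sites is zero. -/
theorem isZero_of_resEtAlong (G : BigSite.Ab Scheme.etalePrecoverage S)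
    (h : ∀ (S' : Scheme.{u}) (g : S' ⟶ S), IsZero ((BigSite.resEtAlong Scheme.etalePrecoverage g).obj G)) :
    IsZero G := by
  rw [IsZero.iff_id_eq_zero]
  apply (sheafToPresheaf _ _).map_injective
  ext V σ
  let g := V.unop.hom
  have e : (Over.map g).obj ((EtFppf.a V.unop.left).obj (EtCoh.top V.unop.left)) ≅ V.unop :=
    Over.isoMk (Iso.refl V.unop.left) ((Category.id_comp _).trans (Category.id_comp g).symm)
  have h1 : IsZero (G.obj.obj (op ((Over.map g).obj ((EtFppf.a V.unop.left).obj (EtCoh.top V.unop.left))))) :=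
    Functor.map_isZero ((sheafToPresheaf _ _) ⋙ (evaluation _ _).obj (op (EtCoh.top V.unop.left))) (h _ g)
  haveI : Subsingleton (G.obj.obj V) :=
    AddCommGrpCat.subsingleton_of_isZero (h1.of_iso (G.obj.mapIso e.op))
  exact Subsingleton.elim (α := G.obj.obj V) _ _

theorem isZero_RpushBig_of_finite (f : T ⟶ S) [IsFinite f] (F : BigSite.Ab Scheme.etalePrecoverage T) (q : ℕ)
    (hq : 0 < q) : IsZero ((BigSite.RpushBig Scheme.etalePrecoverage f q).obj F) := by
  refine isZero_of_resEtAlong _ fun S' g => ?_
  haveI : IsFinite (pullback.snd f g) := MorphismProperty.pullback_snd f g ‹IsFinite f›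
  obtain ⟨e⟩ := nonempty_rightDerived_square (BigSite.pushBig Scheme.etalePrecoverage f AddCommGrpCat.{u + 1})
    (BigSite.resEtAlong Scheme.etalePrecoverage g) (BigSite.resEtAlong Scheme.etalePrecoverage (pullback.fst f g))
    (fun I hI => haveI := hI; injective_resEtAlong _ I) (EtCoh.push (pullback.snd f g))
    (resEtAlongPushBigIso f g _ _ (IsPullback.of_hasPullback f g)).symm F q
  exact (isZero_Rpush_of_integral (pullback.snd f g) _ q hq).of_iso e

theorem nonempty_piEtPull_Rpush_of_finite (f : T ⟶ S) [IsFinite f] (F : EtCoh.Ab T) (q : ℕ) :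
    Nonempty ((BigSite.piEtPull Scheme.etalePrecoverage S).obj ((EtCoh.Rpush f q).obj F) ≅
      (BigSite.RpushBig Scheme.etalePrecoverage f q).obj ((BigSite.piEtPull Scheme.etalePrecoverage T).obj F)) := by
  rcases Nat.eq_zero_or_pos q with rfl | hq
  · haveI : PreservesFiniteLimits (EtCoh.push f) :=
      haveI := (EtCoh.pullPushAdj f).rightAdjoint_preservesLimits (G := _)
      inferInstance
    haveI : PreservesFiniteLimits (BigSite.pushBig Scheme.etalePrecoverage f AddCommGrpCat.{u + 1}) :=
      haveI := (BigSite.bigAdj Scheme.etalePrecoverage f AddCommGrpCat.{u + 1}).rightAdjoint_preservesLimits (G := _)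
      inferInstance
    have hle : ∀ Z : Scheme.{u}, QuotSh.J Scheme.etalePrecoverage Z ≤ QuotSh.J Scheme.fpqcPrecoverage Z :=
      fun Z => etale_le_fppf.trans fppf_le_fpqc
    obtain ⟨ψ, hψ⟩ := exists_isIso_pushCompAb f (QuotSh.J Scheme.etalePrecoverage S)
      (QuotSh.J Scheme.etalePrecoverage T) (hle T) le_rfl F
    let θ := (fullyFaithfulSheafToPresheaf _ _).preimageIso
      (X := (secsAbSheafFunctor (QuotSh.J Scheme.etalePrecoverage S) (hle S)).obj ((EtCoh.push f).obj F))
      (Y := pushSecsAb f (QuotSh.J Scheme.etalePrecoverage S) (QuotSh.J Scheme.etalePrecoverage T) (hle T) F)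
      (@asIso _ _ _ _ ψ hψ)
    exact ⟨(BigSite.piEtPull Scheme.etalePrecoverage S).mapIso ((EtCoh.push f).rightDerivedZeroIsoSelf.app F) ≪≫
      (secsAbIso _ (hle S) le_rfl).app _ ≪≫ θ ≪≫
      (BigSite.pushBig Scheme.etalePrecoverage f AddCommGrpCat.{u + 1}).mapIso
        ((secsAbIso _ (hle T) le_rfl).app F).symm ≪≫
      ((BigSite.pushBig Scheme.etalePrecoverage f AddCommGrpCat.{u + 1}).rightDerivedZeroIsoSelf.app _).symm⟩
  · haveI : (BigSite.piEtPull Scheme.etalePrecoverage S).Additive :=
      (BigSite.piEtAdj Scheme.etalePrecoverage S).left_adjoint_additive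
    exact ⟨(Functor.map_isZero (BigSite.piEtPull Scheme.etalePrecoverage S)
      (isZero_Rpush_of_integral f F q hq)).iso (isZero_RpushBig_of_finite f _ q hq)⟩

end GrothLib.BigEt
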