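import Groth.Agent.Lib.BigEt.Universal
import Groth.Prelude.Def_BigSite

/-!
# The inverse image on a big site is the sheaf of relative sections
-/

set_option autoImplicit false
universe u

open CategoryTheory CategoryTheory.Limits AlgebraicGeometry Opposite
open GrothLib.EtSite GrothLib.EtSec

set_option backward.isDefEq.respectTransparency.types false

noncomputable section

namespace GrothLib.BigEt

variable {S : Scheme.{u}}

theorem gSh_naturality {Ω : Type u} [Field Ω] [IsSepClosed Ω] {η : Spec (CommRingCat.of Ω) ⟶ S}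
    {F G : EtDesc.Sh S} (α : F ⟶ G) {W : S.Etale} (l : Spec (CommRingCat.of Ω) ⟶ W.left) (hl : l ≫ W.hom = η)
    (t : EtDesc.sect F W) : (stalkSh η).map α (gSh F l hl t) = gSh G l hl (α.hom.app (op W) t) :=
  (Scheme.pointSmallEtale η).toPresheafFiber_naturality_apply α.hom _ _ _

/-- Functoriality of relative sections in the sheaf. -/
def secsMap {F G : EtDesc.Sh S} (α : F ⟶ G) {Z : Scheme.{u}} {a : Z ⟶ S} (σ : Secs a F) : Secs a G where
  val Ω _ _ p η h := (stalkSh η).map α (σ.val Ω p η h)
  loc z := by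
    obtain ⟨V, v, hv, z', W, m, hm, t, hz, ht⟩ := σ.loc z
    refine ⟨V, v, hv, z', W, m, hm, α.hom.app (op W) t, hz, fun Ω _ _ q η h => ?_⟩
    exact (congrArg ((stalkSh η).map α) (ht Ω q η h)).trans (gSh_naturality α _ _ t)

theorem secsMap_res {F G : EtDesc.Sh S} (α : F ⟶ G) {Z Z' : Scheme.{u}} {a : Z ⟶ S} {a' : Z' ⟶ S}
    (b : Z' ⟶ Z) (e : b ≫ a = a') (σ : Secs a F) : secsMap α (σ.res b e) = (secsMap α σ).res b e := rfl

theorem secsMap_ofSect {F G : EtDesc.Sh S} (α : F ⟶ G) {Z : Scheme.{u}} {a : Z ⟶ S} {W : S.Etale}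
    (m : Z ⟶ W.left) (hm : m ≫ W.hom = a) (t : EtDesc.sect F W) :
    secsMap α (Secs.ofSect m hm t) = Secs.ofSect m hm (α.hom.app (op W) t) :=
  Secs.ext' fun _ _ _ _ _ _ => gSh_naturality α _ _ t

theorem secsMap_id {F : EtDesc.Sh S} {Z : Scheme.{u}} {a : Z ⟶ S} (σ : Secs a F) : secsMap (𝟙 F) σ = σ :=
  Secs.ext' fun _ _ _ _ η _ => ConcreteCategory.congr_hom ((stalkSh η).map_id F) _

theorem secsMap_comp {F G H : EtDesc.Sh S} (α : F ⟶ G) (β : G ⟶ H) {Z : Scheme.{u}} {a : Z ⟶ S}
    (σ : Secs a F) : secsMap (α ≫ β) σ = secsMap β (secsMap α σ) :=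
  Secs.ext' fun _ _ _ _ η _ => ConcreteCategory.congr_hom ((stalkSh η).map_comp α β) _

/-- Relative sections as a functor to presheaves. -/
def secsPshFunctor (S : Scheme.{u}) : EtDesc.Sh S ⥤ ((Over S)ᵒᵖ ⥤ Type (u + 1)) where
  obj F := secsPsh F
  map α := { app := fun T => TypeCat.ofHom (secsMap α), naturality := fun _ _ _ => rfl }
  map_id F := by ext T σ; exact secsMap_id σ
  map_comp α β := by ext T σ; exact secsMap_comp α β σ

variable (J : GrothendieckTopology (Over S)) (hJ : J ≤ QuotSh.J Scheme.fpqcPrecoverage S)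

/-- Relative sections as a functor to sheaves. -/
def secsSheafFunctor : EtDesc.Sh S ⥤ Sheaf J (Type (u + 1)) where
  obj F := ⟨secsPsh F, (isSheaf_iff_isSheaf_of_type _ _).2 (Presieve.isSheaf_of_le _ hJ (isSheaf_secsPsh_fpqc F))⟩
  map α := ObjectProperty.homMk ((secsPshFunctor S).map α)
  map_id F := ObjectProperty.hom_ext _ ((secsPshFunctor S).map_id F)
  map_comp α β := ObjectProperty.hom_ext _ ((secsPshFunctor S).map_comp α β)

variable (hJ' : QuotSh.J Scheme.etalePrecoverage S ≤ J)
  [(EtFppf.a S).IsContinuous S.smallEtaleTopology J]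

/-- Sections as relative sections. -/
def secsUnit : 𝟭 (EtDesc.Sh S) ⟶
    secsSheafFunctor J hJ ⋙ (EtFppf.a S).sheafPushforwardContinuous (Type (u + 1)) S.smallEtaleTopology J where
  app F := ObjectProperty.homMk
    { app := fun W => TypeCat.ofHom (secOf F)
      naturality := fun W W' r => by ext t; exact secOf_map F r.unop t }
  naturality F G α := by
    refine ObjectProperty.hom_ext _ ?_
    ext W t
    exact (secsMap_ofSect α (𝟙 W.unop.left) (Category.id_comp W.unop.hom) t).symm

/-- The comparison of the inverse image with relative sections. -/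
def secsComparison :
    (EtFppf.a S).sheafPullback (Type (u + 1)) S.smallEtaleTopology J ⟶ secsSheafFunctor J hJ where
  app F := (((EtFppf.a S).sheafAdjunctionContinuous (Type (u + 1)) S.smallEtaleTopology J).homEquiv _ _).symm
    ((secsUnit J hJ).app F)
  naturality F G α := by
    rw [← Adjunction.homEquiv_naturality_right_symm, ← Adjunction.homEquiv_naturality_left_symm]
    exact congrArg _ ((secsUnit J hJ).naturality α)

include hJ' in
theorem isIso_secsComparison (F : EtDesc.Sh S) : IsIso ((secsComparison J hJ).app F) := by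
  let adj := (EtFppf.a S).sheafAdjunctionContinuous (Type (u + 1)) S.smallEtaleTopology J
  let L := (EtFppf.a S).sheafPullback (Type (u + 1)) S.smallEtaleTopology J
  let Φ : L.obj F ⟶ (secsSheafFunctor J hJ).obj F := (secsComparison J hJ).app F
  have hΦ : adj.unit.app F ≫ ((EtFppf.a S).sheafPushforwardContinuous _ _ J).map Φ = (secsUnit J hJ).app F := by
    refine (adj.homEquiv_unit F _ Φ).symm.trans ?_
    exact (adj.homEquiv _ _).apply_symm_apply _
  have hsh : ∀ G : Sheaf J (Type (u + 1)), Presieve.IsSheaf (QuotSh.J Scheme.etalePrecoverage S) G.obj :=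
    fun G => Presieve.isSheaf_of_le _ hJ' ((isSheaf_iff_isSheaf_of_type _ _).1 G.property)
  obtain ⟨ψ, hψ, -⟩ := exists_unique_ext (F := F) (L.obj F).obj (hsh _) (adj.unit.app F).hom
  let Ψ : (secsSheafFunctor J hJ).obj F ⟶ L.obj F := ObjectProperty.homMk ψ
  refine ⟨Ψ, ?_, ?_⟩
  · refine (adj.homEquiv _ _).injective ?_
    rw [adj.homEquiv_unit, adj.homEquiv_unit, Functor.map_comp, ← Category.assoc, hΦ,
      CategoryTheory.Functor.map_id]
    refine Eq.trans ?_ (Category.comp_id _).symm
    refine ObjectProperty.hom_ext _ ?_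
    ext W t
    exact hψ W.unop t
  · obtain ⟨χ, -, huniq⟩ := exists_unique_ext ((secsSheafFunctor J hJ).obj F).obj (hsh _) ((secsUnit J hJ).app F).hom
    refine ObjectProperty.hom_ext _ ?_
    refine ((huniq (ψ ≫ Φ.hom) fun W t => ?_).trans (huniq (𝟙 _) fun W t => rfl).symm)
    show Φ.hom.app (op ((EtFppf.a S).obj W)) (ψ.app (op ((EtFppf.a S).obj W)) (secOf F t)) = _
    refine (congrArg (Φ.hom.app (op ((EtFppf.a S).obj W))) (hψ W t)).trans ?_
    exact congrArg (fun k : F ⟶ _ => k.hom.app (op W) t) hΦ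

/-- The inverse image to a big site is given by relative sections. -/
def secsIso :
    (EtFppf.a S).sheafPullback (Type (u + 1)) S.smallEtaleTopology J ≅ secsSheafFunctor J hJ :=
  haveI := fun F => isIso_secsComparison J hJ hJ' F
  NatIso.ofComponents (fun F => asIso ((secsComparison J hJ).app F))
    (fun α => (secsComparison J hJ).naturality α)

end GrothLib.BigEt
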