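import Groth.Agent.Lib.EtDescent.Descend
import Groth.Agent.Lib.EtSec.Gen
import Mathlib.AlgebraicGeometry.Sites.Fpqc
import Groth.Prelude.Def_QuotSh

/-!
# Relative sections form a sheaf on the big fpqc site
-/

set_option autoImplicit false
universe u

open CategoryTheory CategoryTheory.Limits AlgebraicGeometry Opposite
open GrothLib.EtSite GrothLib.EtSec GrothLib.EtDescent

set_option backward.isDefEq.respectTransparency.types false

noncomputable section

namespace GrothLib.BigEt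

variable {S : Scheme.{u}}

/-- Relative sections of an etale sheaf, as a presheaf on all schemes over the base. -/
def secsPsh (F : EtDesc.Sh S) : (Over S)ᵒᵖ ⥤ Type (u + 1) where
  obj T := Secs T.unop.hom F
  map {T T'} g := TypeCat.ofHom fun σ => σ.res g.unop.left (Over.w g.unop)
  map_id T := by
    ext σ
    exact σ.res_id
  map_comp {T T' T''} g h := by
    ext σ
    exact ((σ.res_comp g.unop.left (Over.w g.unop) h.unop.left (Over.w h.unop))).symm

theorem secsPsh_map {F : EtDesc.Sh S} {T T' : Over S} (g : T' ⟶ T) (σ : Secs T.hom F) :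
    (secsPsh F).map g.op σ = σ.res g.left (Over.w g) := rfl

/-- Quasi-compact flat covers refine to a single flat map with quotient base changes. -/
theorem exists_hasQuotientBC {T : Scheme.{u}} (𝒰 : PreZeroHypercover.{u + 1} T) [QuasiCompactCover 𝒰]
    (hflat : ∀ i, Flat (𝒰.f i)) :
    ∃ (ι : Type u) (V : ι → Scheme.{u}) (v : ∀ k, V k ⟶ T),
      (∀ k, ∃ (i : 𝒰.I₀) (h : V k ⟶ 𝒰.X i), h ≫ 𝒰.f i = v k) ∧ HasQuotientBC (Sigma.desc v) := by
  choose n idx O hO hcov using fun U : T.affineOpens =>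
    QuasiCompactCover.exists_isAffineOpen_of_isCompact 𝒰 U.2.isCompact
  let ι : Type u := Σ U : T.affineOpens, Fin (n U)
  let V : ι → Scheme.{u} := fun k => (O k.1 k.2).toScheme
  let v : ∀ k, V k ⟶ T := fun k => (O k.1 k.2).ι ≫ 𝒰.f (idx k.1 k.2)
  haveI : ∀ k, Flat (v k) := fun k => by
    haveI := hflat (idx k.1 k.2)
    exact MorphismProperty.comp_mem (@Flat) _ _ inferInstance ‹_›
  refine ⟨ι, V, v, fun k => ⟨idx k.1 k.2, (O k.1 k.2).ι, rfl⟩, fun W w _ => ?_⟩
  let a := Sigma.desc v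
  haveI : Surjective a := Surjective.sigmaDesc_of_union_range_eq_univ (Set.eq_univ_of_forall fun x => by
    obtain ⟨U, hU, hxU, -⟩ := exists_isAffineOpen_mem_and_subset (x := x) (U := ⊤) trivial
    have hx : x ∈ ⋃ j, (𝒰.f (idx ⟨U, hU⟩ j)) '' (O ⟨U, hU⟩ j) := (hcov ⟨U, hU⟩).symm.subset hxU
    obtain ⟨j, y, hy, rfl⟩ := Set.mem_iUnion.1 hx
    exact Set.mem_iUnion.2 ⟨⟨⟨U, hU⟩, j⟩, ⟨y, hy⟩, rfl⟩)
  haveI : Surjective (pullback.snd a w) := MorphismProperty.pullback_snd _ _ ‹_›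
  rw [Topology.isQuotientMap_iff]
  refine ⟨.of_isOpen_preimage_iff_isOpen fun s =>
    ⟨fun hs => ?_, fun hs => hs.preimage (pullback.snd a w).continuous⟩, (pullback.snd a w).surjective⟩
  refine isOpen_iff_forall_mem_open.2 fun x hxs => ?_
  obtain ⟨U, hU, hxU, -⟩ := exists_isAffineOpen_mem_and_subset (x := w.base x) (U := ⊤) trivial
  let kU : Fin (n ⟨U, hU⟩) → ι := fun j => ⟨⟨U, hU⟩, j⟩
  have hrange : ∀ j, Set.range (v (kU j)).base ⊆ Set.range U.ι.base := fun j => by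
    rintro _ ⟨y, rfl⟩
    rw [Scheme.Opens.range_ι]
    exact (hcov ⟨U, hU⟩).subset (Set.mem_iUnion.2 ⟨j, _, y.2, rfl⟩)
  let c : ∀ j, V (kU j) ⟶ U.toScheme := fun j => IsOpenImmersion.lift U.ι (v (kU j)) (hrange j)
  have hc : ∀ j, c j ≫ U.ι = v (kU j) := fun j => IsOpenImmersion.lift_fac _ _ _
  haveI : ∀ j, Flat (c j) := fun j => by
    haveI : Flat (c j ≫ U.ι) := (hc j).symm ▸ inferInstance
    exact MorphismProperty.of_postcomp (W := @Flat) (W' := @IsOpenImmersion) (c j) U.ι inferInstance ‹_›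
  let b := Sigma.desc c
  haveI : Flat b := IsZariskiLocalAtSource.sigmaDesc fun j => inferInstance
  haveI : Surjective b := Surjective.sigmaDesc_of_union_range_eq_univ (Set.eq_univ_of_forall fun y => by
    obtain ⟨j, z, hz, e⟩ := Set.mem_iUnion.1 ((hcov ⟨U, hU⟩).symm.subset y.2)
    refine Set.mem_iUnion.2 ⟨j, ⟨z, hz⟩, U.ι.isOpenEmbedding.injective ?_⟩
    show (c j ≫ U.ι).base _ = _
    rw [hc]
    exact e)
  haveI : IsAffine U.toScheme := hU
  haveI : ∀ j, IsAffine (V (kU j)) := fun j => hO ⟨U, hU⟩ j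
  haveI : QuasiCompact b := quasiCompact_of_compactSpace b
  haveI : Flat (pullback.snd b (w ∣_ U)) := MorphismProperty.pullback_snd _ _ ‹Flat b›
  haveI : Surjective (pullback.snd b (w ∣_ U)) := MorphismProperty.pullback_snd _ _ ‹Surjective b›
  haveI : QuasiCompact (pullback.snd b (w ∣_ U)) := MorphismProperty.pullback_snd _ _ ‹QuasiCompact b›
  have hquot := (uGen_of_flat (pullback.snd b (w ∣_ U))).isQuotientMap
  -- the comparison of the two base changes
  let d : (∐ fun j => V (kU j)) ⟶ ∐ V := Sigma.desc fun j => Sigma.ι V (kU j)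
  have hd : d ≫ a = b ≫ U.ι := Sigma.hom_ext _ _ fun j => by
    rw [Sigma.ι_desc_assoc, Sigma.ι_desc, Sigma.ι_desc_assoc, hc]
  let e : pullback b (w ∣_ U) ⟶ pullback a w := pullback.map b (w ∣_ U) a w d (w ⁻¹ᵁ U).ι U.ι hd.symm
    (morphismRestrict_ι w U)
  have he : e ≫ pullback.snd a w = pullback.snd b (w ∣_ U) ≫ (w ⁻¹ᵁ U).ι := pullback.lift_snd _ _ _
  have hop : IsOpen ((w ⁻¹ᵁ U).ι.base ⁻¹' s) := by
    refine hquot.isOpen_preimage.1 ?_
    have : (pullback.snd b (w ∣_ U)).base ⁻¹' ((w ⁻¹ᵁ U).ι.base ⁻¹' s) =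
        e.base ⁻¹' ((pullback.snd a w).base ⁻¹' s) := by
      ext y
      show ((pullback.snd b (w ∣_ U) ≫ (w ⁻¹ᵁ U).ι).base y ∈ s) ↔ ((e ≫ pullback.snd a w).base y ∈ s)
      rw [he]
    rw [this]
    exact hs.preimage e.continuous
  refine ⟨(w ⁻¹ᵁ U).ι.base '' ((w ⁻¹ᵁ U).ι.base ⁻¹' s), Set.image_preimage_subset _ _,
    (w ⁻¹ᵁ U).ι.isOpenEmbedding.isOpenMap _ hop, ⟨x, hxU⟩, hxs, rfl⟩

/-- The presheaf of relative sections is a sheaf for the fpqc topology. -/
theorem isSheaf_secsPsh_fpqc (F : EtDesc.Sh S) :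
    Presieve.IsSheaf (QuotSh.J Scheme.fpqcPrecoverage S) (secsPsh F) := by
  intro T R hR x hx
  obtain ⟨R₀, hR₀, hle⟩ := Precoverage.mem_toGrothendieck_iff_of_isStableUnderComposition.1 hR
  obtain ⟨𝒰, rfl⟩ := R₀.exists_eq_preZeroHypercover
  haveI : QuasiCompactCover 𝒰 := Scheme.presieve₀_mem_qcPrecoverage_iff.1 hR₀.1
  obtain ⟨ι, V, v, hfac, hq⟩ := exists_hasQuotientBC 𝒰 fun i => hR₀.2.2 (Presieve.ofArrows.mk i)
  let g : ∀ k, Over.mk (v k ≫ T.hom) ⟶ T := fun k => Over.homMk (v k)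
  have hg : ∀ k, R (g k) := fun k => by
    obtain ⟨i, h, hh⟩ := hfac k
    refine (Sieve.overEquiv_iff R (v k)).1 ?_
    rw [← hh]
    exact (Sieve.overEquiv T R).downward_closed (hle _ _ (Presieve.ofArrows.mk i)) h
  let a := Sigma.desc v
  haveI := hq.surjective
  obtain ⟨σ, hσ⟩ : ∃ σ : Secs (a ≫ T.hom) F, ∀ k,
      σ.res (Sigma.ι V k) rfl =
        (x (g k) (hg k)).res (𝟙 (V k)) (show 𝟙 (V k) ≫ v k ≫ T.hom = Sigma.ι V k ≫ a ≫ T.hom by
          simp [a]) := by
    refine Secs.exists_glue V (fun k => Sigma.ι V k) (fun k => inferInstance) (fun z => ?_) _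
      (fun k l Ω _ _ p q η hp hq' e => ?_)
    · obtain ⟨k, y, hy⟩ := (sigmaOpenCover V).exists_eq z
      exact ⟨k, y, hy⟩
    · obtain ⟨rfl⟩ : k = l ∧ True := ⟨by
        have h1 := congrArg (fun m : Spec (CommRingCat.of Ω) ⟶ ∐ V => m.base default) e
        exact congrArg Sigma.fst ((sigmaι_eq_iff V k l _ _).1 h1), trivial⟩
      obtain rfl : p = q := (cancel_mono (Sigma.ι V k)).1 e
      rfl
  have hval : ∀ (k : ι) (Ω : Type u) [Field Ω] [IsSepClosed Ω] (p : Spec (CommRingCat.of Ω) ⟶ V k)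
      (η : Spec (CommRingCat.of Ω) ⟶ S) (h : (p ≫ Sigma.ι V k) ≫ a ≫ T.hom = η) (h' : p ≫ v k ≫ T.hom = η),
      σ.val Ω (p ≫ Sigma.ι V k) η h = (x (g k) (hg k)).val Ω p η h' := fun k Ω _ _ p η h h' => by
    have := congrArg (fun τ : Secs (Sigma.ι V k ≫ a ≫ T.hom) F =>
      τ.val Ω p η ((Category.assoc _ _ _).symm.trans h)) (hσ k)
    exact this.trans ((x (g k) (hg k)).val_congr (Category.comp_id p) _ _)
  have split : ∀ (Ω : Type u) [Field Ω] [IsSepClosed Ω] (p : Spec (CommRingCat.of Ω) ⟶ ∐ V),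
      ∃ k q, q ≫ Sigma.ι V k = p := fun Ω _ _ p => by
    obtain ⟨k, y, hy⟩ := (sigmaOpenCover V).exists_eq (p.base default)
    obtain ⟨q, hq', -⟩ := exists_lift (Sigma.ι V k) p y hy
    exact ⟨k, q, hq'⟩
  -- agreement with any arrow of the sieve
  have agree : ∀ {T' : Over S} (g' : T' ⟶ T) (hg' : R g') (Ω : Type u) [Field Ω] [IsSepClosed Ω]
      (p : Spec (CommRingCat.of Ω) ⟶ T'.left) (r : Spec (CommRingCat.of Ω) ⟶ ∐ V)
      (η : Spec (CommRingCat.of Ω) ⟶ S) (hp : p ≫ T'.hom = η) (hr : r ≫ a ≫ T.hom = η),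
      p ≫ g'.left = r ≫ a → (x g' hg').val Ω p η hp = σ.val Ω r η hr := by
    intro T' g' hg' Ω _ _ p r η hp hr e
    obtain ⟨k, q, rfl⟩ := split Ω r
    have hq' : q ≫ v k ≫ T.hom = η := by
      rw [← hr]; simp [a]
    let P : Over.mk η ⟶ T' := Over.homMk p hp
    let Q : Over.mk η ⟶ Over.mk (v k ≫ T.hom) := Over.homMk q hq'
    have eq : P ≫ g' = Q ≫ g k := Over.OverMorphism.ext (by
      show p ≫ g'.left = q ≫ v k
      rw [e]; simp [a])
    have h := congrArg (fun τ : Secs (Over.mk η).hom F => τ.val Ω (𝟙 _) η (Category.id_comp _))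
      (hx P Q hg' (hg k) eq)
    exact (((x g' hg').val_congr (Category.id_comp p).symm hp _).trans (h.trans
      ((x (g k) (hg k)).val_congr (Category.id_comp q) _ hq'))).trans (hval k Ω q η hr hq').symm
  have hcompat : Compat a σ := fun Ω _ _ p q η hp hq' e => by
    obtain ⟨k, p', rfl⟩ := split Ω p
    have h' : p' ≫ v k ≫ T.hom = η := by rw [← hp]; simp [a]
    refine (hval k Ω p' η hp h').trans ?_
    refine agree (g k) (hg k) Ω p' q η h' hq' ?_
    show p' ≫ v k = _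
    rw [← e]; simp [a]
  obtain ⟨s, hs⟩ := exists_descend hq rfl σ hcompat
  refine ⟨s, fun T' g' hg' => ?_, fun s' hs' => ?_⟩
  · refine Secs.eq_of_eqLocus _ _ fun z => ?_
    obtain ⟨y, hy⟩ := a.surjective (g'.left.base z)
    obtain ⟨o, ho, -⟩ := Scheme.Pullback.exists_preimage_pullback (f := g'.left) (g := a) z y hy.symm
    obtain ⟨Ω, _, _, r, rfl⟩ := Secs.exists_point o
    rw [← ho]
    let p := r ≫ pullback.fst g'.left a
    let q := r ≫ pullback.snd g'.left a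
    let η := p ≫ T'.hom
    have e : p ≫ g'.left = q ≫ a := by simp only [p, q, Category.assoc, pullback.condition]
    have hq' : q ≫ a ≫ T.hom = η := by
      rw [← Category.assoc, ← e, Category.assoc, Over.w g']
    refine (Secs.mem_eqLocus_iff _ _ p η rfl).2 ?_
    refine (s.val_congr e _ ((Category.assoc _ _ _).trans hq')).trans ?_
    exact (congrArg (fun τ : Secs (a ≫ T.hom) F => τ.val Ω q η hq') hs).trans
      (agree g' hg' Ω p q η rfl hq' e).symm
  · refine res_injective (a := a) (b := T.hom) rfl ?_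
    show s'.res a rfl = s.res a rfl
    rw [hs]
    refine Secs.ext' fun Ω _ _ r η hr => ?_
    obtain ⟨k, q, rfl⟩ := split Ω r
    have hq' : q ≫ v k ≫ T.hom = η := by rw [← hr]; simp [a]
    refine (s'.val_congr (show (q ≫ Sigma.ι V k) ≫ a = q ≫ v k by simp [a]) _
      ((Category.assoc _ _ _).trans hq')).trans ?_
    exact (congrArg (fun τ : Secs (Over.mk (v k ≫ T.hom)).hom F => τ.val Ω q η hq') (hs' (g k) (hg k))).trans
      (hval k Ω q η hr hq').symm

end GrothLib.BigEt
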